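import Cfsg.Agent.Mrg.Omega.OM.SwapV.Q.Def
import Cfsg.Agent.Mrg.Omega.OM.SWQ.CostOne
import Cfsg.Agent.Mrg.Omega.OM.SWQ.CaseTwoEnd
import Cfsg.Agent.Mrg.Omega.OM.SWQ.CaseFour
import Cfsg.Agent.Mrg.Omega.OM.Lev.Low.LowMain
import Cfsg.Agent.Mrg.Omega.OM.SwapV.LowZ
import Cfsg.Agent.Mrg.Omega.OM.Lev.LowBlk
import Cfsg.Agent.Mrg.Omega.OM.Lev.SMin
import Cfsg.Agent.Mrg.Omega.OM.SwapV.Core

-- merged: Cfsg.Agent.Mrg.Omega.OM.SwapV.Q.CaseOne
section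

section


/-!
# (Om) for `q ≥ 4` over an abstract `V`, CASE I: some `T`-orbit of indices has length at least two

* `nW`, `ti`, `h4` : (N) on `W j`, (TI), (H4);
* `h3` : (H3);
* `phi_univ` : for the chosen pair `T` normalises all `Z i` (`q i ≥ 4`).
-/

set_option autoImplicit false
set_option linter.unusedSectionVars false

namespace Cfsg.Agent.Omega.OM.SwapV.Q

open Subgroup Cfsg Cfsg.Agent.ZN.ChoiceBase Cfsg.Agent.ZN.ChoiceSit
open Cfsg.Agent.ZN (jj zj bau zc zl o2)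
open Cfsg.Agent.MinSimple.MinParabolic (IsMinPar)
open Cfsg.Agent.Omega.OM.LevD (LB K0)
open Cfsg.Agent.Omega.OM.WeakCl (WC)
open Cfsg.Agent.Omega.OM.SWQ (exists_fix cost_blocks)
open Cfsg.Agent.Omega.OmThm
open scoped commutatorElement

universe u

variable {G : Type u} [Group G] [Finite G]

variable {ι : Type} [Finite ι] {S : Sylow 2 G} {K B V ZJ : Subgroup G} {L W Z C A : ι → Subgroup G} {q : ι → ℕ}

namespace Gr

variable (h : Gr S K B V ZJ L W Z C A q)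
include h

theorem exists_perm {t : G} (ht : t ∈ (S : Subgroup G)) (i : ι) :
    ∃ j, cj t (Z i) = Z j ∧ cj t (W i) = W j ∧ cj t (C i) = C j := by
  obtain ⟨j, hj⟩ := (h.norm t (h.S_norm ht)).2 i
  exact ⟨j, hj, h.perm t ht i j hj⟩

/-- the support of a conjugate -/
theorem supp {t : G} (ht : t ∈ (S : Subgroup G)) {i j : ι} (e : cj t (Z i) = Z j) (x : G) :
    t * x * t⁻¹ ∈ C j ↔ x ∈ C i := by
  rw [← (h.perm t ht i j e).2, mem_cj]
  have e1 : t⁻¹ * (t * x * t⁻¹) * t = x := by group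
  rw [e1]

theorem W_cj {t : G} (ht : t ∈ (S : Subgroup G)) {i j : ι} (e : cj t (Z i) = Z j) :
    cj t (W i) = W j := (h.perm t ht i j e).1

theorem L_cent {i j : ι} (hji : j ≠ i) : L j ≤ centralizer (Z i : Set G) := by
  intro l hl
  refine mem_centralizer_iff.2 fun z hz => ?_
  exact (h.LC j l hl z (h.Zle i hz) (h.WjC j i hji (h.ZW i hz))).symm

theorem trW {i : ι} {x : G} (hx : x ∈ W i) : ∃ l ∈ L i, l * x * l⁻¹ ∈ Z i := by
  have h1 := h.conjZ {i} x (by simpa using hx)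
  simpa using h1

theorem exists_W (hq : ∀ i, 1 < q i) (i : ι) : ∃ v ∈ W i, v ∉ Z i ∧ v ≠ 1 := by
  by_contra hcon
  push Not at hcon
  have hle : W i ≤ Z i := by
    intro v hv
    by_contra hvZ
    have := hcon v hv hvZ
    exact hvZ (this ▸ one_mem _)
  have h1 := Subgroup.card_le_of_le hle
  rw [h.cardW, h.cardZ] at h1
  have h2 := hq i
  have h3 : q i * 1 < q i * q i := Nat.mul_lt_mul_of_pos_left h2 (by omega)
  omega

/-! ### (N), (TI), (H4) -/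

section ti

variable {X H : Subgroup G} {r : Set ι}

/-- (N) on `W j`. -/
theorem nW (hLH : ∀ j ∈ r, L j ≤ H) (hLM : ∀ j ∈ r, L j ≤ X)
    (hNZ : ∀ j ∈ r, ∀ x ∈ Z j, x ≠ 1 → ∀ u ∈ H, u * x = x * u → u ∈ X) :
    ∀ j ∈ r, ∀ x ∈ W j, x ≠ 1 → ∀ u ∈ H, u * x = x * u → u ∈ X := by
  intro j hj x hx hx1 u hu hux
  obtain ⟨l, hl, hlx⟩ := h.trW hx
  have h1 : l * u * l⁻¹ ∈ X := by
    refine hNZ j hj _ hlx (fun e => hx1 ?_) _ (mul_mem (mul_mem (hLH j hj hl) hu) (inv_mem (hLH j hj hl))) ?_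
    · exact conj_eq_one_iff.1 e
    · have e1 := congrArg (fun t => l * t * l⁻¹) hux
      have e2 : l * u * l⁻¹ * (l * x * l⁻¹) = l * (u * x) * l⁻¹ := by group
      have e3 : l * x * l⁻¹ * (l * u * l⁻¹) = l * (x * u) * l⁻¹ := by group
      rw [e2, e3]
      exact e1
  have h2 := mul_mem (mul_mem (inv_mem (hLM j hj hl)) h1) (hLM j hj hl)
  have e : l⁻¹ * (l * u * l⁻¹) * l = u := by group
  rwa [e] at h2

/-- **(TI)** -/
theorem ti (hF1 : ∀ g : G, cj g B ≤ X → g ∈ X) (hBH : B ≤ H) (hLH : ∀ j ∈ r, L j ≤ H) (hLM : ∀ j ∈ r, L j ≤ X)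
    (hNZ : ∀ j ∈ r, ∀ x ∈ Z j, x ≠ 1 → ∀ u ∈ H, u * x = x * u → u ∈ X) :
    ∀ i ∈ r, ∀ x ∈ W i, x ≠ 1 → ∀ f ∈ H, x ∈ cj f (⨆ j ∈ r, W j) → f ∈ X := by
  intro i hi x hx hx1 f hf hxf
  rw [mem_cj] at hxf
  obtain ⟨m, hm, hmx'⟩ := h.conjZ r _ hxf
  have hmx : m * (f⁻¹ * x * f) * m⁻¹ ∈ ZJ := (iSup₂_le fun i _ => h.Zle i : (⨆ i ∈ r, Z i) ≤ ZJ) hmx'
  have hmM : m ∈ X := (iSup₂_le fun i hi => hLM i hi : (⨆ i ∈ r, L i) ≤ X) hm
  have hmH : m ∈ H := (iSup₂_le fun i hi => hLH i hi : (⨆ i ∈ r, L i) ≤ H) hm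
  have hg : f * m⁻¹ ∈ X := by
    refine hF1 _ ?_
    rintro _ ⟨b, hb, rfl⟩
    have hgH : f * m⁻¹ ∈ H := mul_mem hf (inv_mem hmH)
    refine h.nW hLH hLM hNZ i hi x hx hx1 _ (mul_mem (mul_mem hgH (hBH hb)) (inv_mem hgH)) ?_
    have h1 := h.cB hb hmx
    change (f * m⁻¹) * b * (f * m⁻¹)⁻¹ * x = x * ((f * m⁻¹) * b * (f * m⁻¹)⁻¹)
    have h2 := congrArg (fun t => (f * m⁻¹) * t * (f * m⁻¹)⁻¹) h1
    have e1 : (f * m⁻¹) * (m * (f⁻¹ * x * f) * m⁻¹ * b) * (f * m⁻¹)⁻¹ =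
      x * ((f * m⁻¹) * b * (f * m⁻¹)⁻¹) := by group
    have e2 : (f * m⁻¹) * (b * (m * (f⁻¹ * x * f) * m⁻¹)) * (f * m⁻¹)⁻¹ =
      (f * m⁻¹) * b * (f * m⁻¹)⁻¹ * x := by group
    rw [← e1, ← e2]
    exact h2
  have h3 := mul_mem hg hmM
  have e : f * m⁻¹ * m = f := by group
  rwa [e] at h3

/-- **(H4)** -/
theorem h4 (hq : ∀ i, 1 < q i) (hF1 : ∀ g : G, cj g B ≤ X → g ∈ X) (hBH : B ≤ H) (hLH : ∀ j ∈ r, L j ≤ H)
    (hLM : ∀ j ∈ r, L j ≤ X)
    (hNZ : ∀ j ∈ r, ∀ x ∈ Z j, x ≠ 1 → ∀ u ∈ H, u * x = x * u → u ∈ X) (hr : r.Nonempty) :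
    H ⊓ normalizer ((⨆ j ∈ r, W j : Subgroup G) : Set G) ≤ X := by
  rintro f ⟨hf, hfU⟩
  obtain ⟨i, hi⟩ := hr
  obtain ⟨v, hv, -, hv1⟩ := h.exists_W hq i
  refine h.ti hF1 hBH hLH hLM hNZ i hi v hv hv1 f hf ?_
  rw [mem_normalizer_iff_cj.1 hfU]
  exact (le_iSup₂_of_le i hi le_rfl : W i ≤ ⨆ j ∈ r, W j) hv

end ti

/-- **(H3)** -/
theorem h3 (hq : ∀ i, 1 < q i) {O : Subgroup G} {j : ι} (hO : ∀ a ∈ A j, ∀ o ∈ O, a * o * a⁻¹ ∈ O) {o : G}
    (ho : o ∈ O) (hmv : cj o⁻¹ (W j) ≤ C j) (hBW : ∀ b ∈ B, ∀ w ∈ W j, b * w * b⁻¹ ∈ W j) : Z j ≤ ⁅W j, O⁆ := by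
  intro z hz
  obtain ⟨v, hv, hvZ, -⟩ := h.exists_W hq j
  obtain ⟨a, ha, e⟩ := h.root j v hv hvZ z⁻¹ (inv_mem hz)
  -- `e = [o, a⁻¹] ∈ O` acts on `W j` as `a`
  have he : o * a⁻¹ * o⁻¹ * a ∈ O := by
    have h1 := hO a⁻¹ (inv_mem ha) o⁻¹ (inv_mem ho)
    rw [inv_inv] at h1
    have h2 := mul_mem ho h1
    have e1 : o * (a⁻¹ * o⁻¹ * a) = o * a⁻¹ * o⁻¹ * a := by group
    rwa [e1] at h2
  have hav : a * v * a⁻¹ ∈ W j := hBW a (h.AB j ha) v hv
  have h1 : a * (o⁻¹ * (a * v * a⁻¹) * o) = o⁻¹ * (a * v * a⁻¹) * o * a := by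
    refine h.AC j a ha _ (hmv ?_)
    refine ⟨a * v * a⁻¹, hav, ?_⟩
    show o⁻¹ * (a * v * a⁻¹) * o⁻¹⁻¹ = o⁻¹ * (a * v * a⁻¹) * o
    rw [inv_inv]
  have h2 : o * a⁻¹ * o⁻¹ * (a * v * a⁻¹) * (o * a⁻¹ * o⁻¹)⁻¹ = a * v * a⁻¹ := by
    have e1 : o * a⁻¹ * o⁻¹ * (a * v * a⁻¹) * (o * a⁻¹ * o⁻¹)⁻¹ =
        o * (a⁻¹ * (o⁻¹ * (a * v * a⁻¹) * o * a)) * o⁻¹ := by group
    rw [e1, ← h1]; group
  have h3 : ⁅v, o * a⁻¹ * o⁻¹ * a⁆ = z := by
    have hc : v * (a * v * a⁻¹) = a * v * a⁻¹ * v := h.Vc (h.WV j hv) (h.WV j hav)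
    rw [commutatorElement_def]
    have e1 : v * (o * a⁻¹ * o⁻¹ * a) * v⁻¹ * (o * a⁻¹ * o⁻¹ * a)⁻¹ =
        v * (o * a⁻¹ * o⁻¹ * (a * v * a⁻¹) * (o * a⁻¹ * o⁻¹)⁻¹)⁻¹ := by group
    rw [e1, h2]
    have e2 : z = (a * v * a⁻¹ * v⁻¹)⁻¹ := by rw [e, inv_inv]
    rw [e2]; group
  rw [← h3]
  exact commutator_mem_commutator hv he

/-- `B` normalises `W i`. -/
theorem BW (hq : ∀ i, 1 < q i) (i : ι) : ∀ b ∈ B, ∀ w ∈ W i, b * w * b⁻¹ ∈ W i := by
  intro b hb w hw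
  have h1 : cj b (Z i) = Z i := by
    obtain ⟨z, hz, hz1⟩ := h.exists_ne hq i
    exact h.fix_of_comm (h.lb.two_le h.lb.Bp le_rfl hb) hz hz1 (h.cB hb (h.Zle i hz))
  have h2 := h.W_cj (h.lb.BS hb) h1
  rw [← h2]
  exact ⟨w, hw, rfl⟩

end Gr

/-- **CASE I.** -/
theorem phi_univ (h : Gr S K B V ZJ L W Z C A q) (hK : ∀ i, 4 ≤ q i) {X T F : Subgroup G} (s : Sel S B V ZJ Z X T F)
    (hLM : ∀ i, L i ≤ X) (hD : centralizer (ZJ : Set G) ≤ X) (hN : normalizer (B : Set G) ≤ X) :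
    ∀ i, i ∈ Phi Z T := by
  classical
  have hq : ∀ i, 1 < q i := fun i => by have := hK i; omega
  by_contra hcon
  push Not at hcon
  obtain ⟨i₀, hi₀⟩ := hcon
  have hp := s.pair
  have hZM : normalizer (ZJ : Set G) ≤ X := h.lb.norm_zj_le.trans (sup_le hD hN)
  have hSM : (S : Subgroup G) ≤ X := h.S_norm.trans hN
  have hTM : T ≤ X := s.TS.trans hSM
  have hO : o2 F ≤ T := o2_le_syl hp.syl
  have hTF : T ≤ F := hp.syl.1
  obtain ⟨𝓐, hfam, hnJ, hA⟩ := h.fam X T F hp hD hTM hZM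
  -- the orbit
  set r : Set ι := {j | ∃ o ∈ o2 F, cj o (Z i₀) = Z j} with hr
  have hi₀r : i₀ ∈ r := ⟨1, one_mem _, cj_one _⟩
  have hrO : ∀ o ∈ o2 F, ∀ i j, cj o (Z i) = Z j → (i ∈ r ↔ j ∈ r) := by
    intro o ho i j e
    constructor
    · rintro ⟨o', ho', e'⟩
      exact ⟨o * o', mul_mem ho ho', SwapL.cj_mul_eq e' e⟩
    · rintro ⟨o', ho', e'⟩
      exact ⟨o⁻¹ * o', mul_mem (inv_mem ho) ho', SwapL.cj_mul_eq e' (SwapL.cj_inv_eq e)⟩
  -- an element of `Z_J` with support `r` centralised by `F`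
  obtain ⟨x, hxr, hx1, hxO⟩ : ∃ x ∈ (⨆ j ∈ r, Z j : Subgroup G), x ≠ 1 ∧ x ∈ centralizer (o2 F : Set G) := by
    refine exists_fix (isPGroup_o2 F) ?_ ?_ ?_
    · exact (h.lb.Bp.to_le h.lb.ZB).to_le (iSup₂_le fun j _ => h.Zle j)
    · intro e
      have h1 : Z i₀ ≤ ⊥ := by
        rw [← e]
        exact le_iSup₂_of_le i₀ hi₀r le_rfl
      exact h.Z_ne_bot hq i₀ (le_bot_iff.1 h1)
    · intro o ho
      rw [mem_normalizer_iff_cj]
      refine Subgroup.eq_of_le_of_card_ge ?_ (by rw [card_cj])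
      rw [cj_le_iff]
      refine iSup₂_le fun j hj => ?_
      obtain ⟨l, hl⟩ := (h.norm o (h.S_norm (s.TS (hO ho)))).2 j
      rw [← cj_le_iff, hl]
      exact le_iSup₂_of_le l ((hrO o ho j l hl).1 hj) le_rfl
  have hxJ : x ∈ ZJ := (iSup₂_le fun j _ => h.Zle j : (⨆ j ∈ r, Z j : Subgroup G) ≤ ZJ) hxr
  have hxF : ∀ f ∈ F, f * x = x * f := fun f hf =>
    mem_centralizer_iff.1 (hp.fix ⟨hxJ, hxO⟩) f hf
  have hxfix : ∀ f ∈ F, f * x * f⁻¹ = x := fun f hf => by rw [hxF f hf]; group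
  have hxs : ∀ i, x ∈ C i ↔ i ∉ r := by
    have h1 : ∀ i, i ∉ r → x ∈ C i := by
      intro i hi
      have h2 : (⨆ j ∈ r, Z j : Subgroup G) ≤ C i :=
        iSup₂_le fun j hj => (h.ZW j).trans (h.WjC i j fun e => hi (e ▸ hj))
      exact h2 hxr
    obtain ⟨j₁, hj₁⟩ : ∃ j, x ∉ C j := by
      by_contra hcon
      push Not at hcon
      exact hx1 (h.C0 x (h.ZJV hxJ) hcon)
    have hj₁r : j₁ ∈ r := by
      by_contra h2
      exact hj₁ (h1 j₁ h2)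
    intro i
    refine ⟨fun h2 hi => ?_, h1 i⟩
    obtain ⟨o, ho, e⟩ := hi
    obtain ⟨o', ho', e'⟩ := hj₁r
    have ho'' : o' * o⁻¹ ∈ o2 F := mul_mem ho' (inv_mem ho)
    have e2 : cj (o' * o⁻¹) (Z i) = Z j₁ := SwapL.cj_mul_eq (SwapL.cj_inv_eq e) e'
    have h3 := (h.supp (s.TS (hO ho'')) e2 x).2 h2
    rw [hxfix _ (hTF (hO ho''))] at h3
    exact hj₁ h3
  -- `T` stabilises `r`
  have hrT : ∀ t ∈ T, ∀ i j, cj t (Z i) = Z j → i ∈ r → j ∈ r := by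
    intro t ht i j e hi
    by_contra hj
    have h1 := (h.supp (s.TS ht) e x).1
    rw [hxfix t (hTF ht)] at h1
    exact (hxs i).1 (h1 ((hxs j).2 hj)) hi
  -- an element of `O₂(F)` moves `i₀`
  obtain ⟨j₀, hj₀r, hij₀⟩ : ∃ j₀ ∈ r, i₀ ≠ j₀ := by
    have h1 : ∃ t ∈ T, cj t (Z i₀) ≠ Z i₀ := by
      by_contra hcon
      push Not at hcon
      exact hi₀ hcon
    obtain ⟨t, ht, hne⟩ := h1
    obtain ⟨j, hj⟩ := (h.norm t (h.S_norm (s.TS ht))).2 i₀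
    exact ⟨j, hrT t ht i₀ j hj hi₀r, fun e => hne (by rw [hj, ← e])⟩
  -- every index in `r` is moved by `O₂(F)`
  have hmv : ∀ i ∈ r, ∃ o ∈ o2 F, ∃ j, j ≠ i ∧ cj o (Z i) = Z j := by
    rintro i ⟨o, ho, e⟩
    by_cases h1 : i₀ = i
    · subst h1
      obtain ⟨o', ho', e'⟩ := hj₀r
      exact ⟨o', ho', j₀, hij₀.symm, e'⟩
    · exact ⟨o⁻¹, inv_mem ho, i₀, h1, SwapL.cj_inv_eq e⟩
  have hrPhi : ∀ i ∈ r, i ∉ Phi Z T := by
    intro i hi hPhi
    obtain ⟨o, ho, j, hj, e⟩ := hmv i hi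
    exact hj (h.Z_inj' hq (e.symm.trans (hPhi o (hO ho))))
  -- the group `Y₀`
  set Y₀ : Subgroup G := ⨆ i ∈ Phi Z T, (Z i ⊓ centralizer (T : Set G)) with hY₀
  have hY₀J : Y₀ ≤ ZJ := iSup₂_le fun i _ => inf_le_left.trans (h.Zle i)
  have hFY₀ : F ≤ centralizer (Y₀ : Set G) := by
    rw [le_centralizer_iff]
    refine iSup₂_le fun i _ y hy => hp.fix ⟨h.Zle i hy.1, ?_⟩
    exact centralizer_le (by exact_mod_cast hO) hy.2
  have hBY₀ : B ≤ centralizer (Y₀ : Set G) :=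
    h.lb.Bc.trans (centralizer_le (by exact_mod_cast hY₀J))
  have hLY₀ : ∀ j ∈ r, L j ≤ centralizer (Y₀ : Set G) := by
    intro j hj
    rw [le_centralizer_iff]
    refine iSup₂_le fun i hi => inf_le_left.trans ?_
    rw [le_centralizer_iff]
    exact h.L_cent fun e => hrPhi j hj (e ▸ hi)
  have hNZ : ∀ j ∈ r, ∀ x ∈ Z j, x ≠ 1 → ∀ u ∈ centralizer (Y₀ : Set G), u * x = x * u → u ∈ X := by
    intro j hj z hz hz1 u hu huz
    refine s.cen1 (Y₀ ⊔ zpowers z) (sup_le hY₀J (by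
      rw [zpowers_le]; exact h.Zle j hz)) (fun i hi => ?_)
      ⟨j, hrPhi j hj, z, hz, hz1, mem_sup_right (mem_zpowers z)⟩ ?_
    · obtain ⟨y, hy, hy1, hyT⟩ := exists_fix hp.syl.2.1 (h.Z_two i) (h.Z_ne_bot hq i) fun t ht =>
        mem_normalizer_iff_cj.2 (hi t ht)
      refine ⟨y, hy, hy1, mem_sup_left ?_⟩
      exact (le_iSup₂_of_le i hi le_rfl : Z i ⊓ centralizer (T : Set G) ≤ Y₀) ⟨hy, hyT⟩
    · have h1 : (Y₀ ⊔ zpowers z : Subgroup G) ≤ centralizer ({u} : Set G) := by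
        refine sup_le (fun y hy => ?_) ?_
        · rw [mem_centralizer_singleton_iff]
          exact mem_centralizer_iff.1 hu y hy
        · rw [zpowers_le, mem_centralizer_singleton_iff]
          exact huz.symm
      exact mem_centralizer_iff.2 fun y hy => mem_centralizer_singleton_iff.1 (h1 hy)
  have hF1 : ∀ g : G, cj g B ≤ X → g ∈ X := fun _ hg => mem_of_cj_B_le h.lb h.wc hSM hN hg
  have hNW := h.nW (r := r) hLY₀ (fun j _ => hLM j) hNZ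
  have hH4 := h.h4 hq hF1 hBY₀ hLY₀ (fun j _ => hLM j) hNZ ⟨i₀, hi₀r⟩
  -- the situation
  have hWV : ∀ i, W i ≤ V := h.WV
  have hsup : (⨆ j : r, W j) = ⨆ j ∈ r, W j := iSup_subtype' (f := fun j (_ : j ∈ r) => W j) |>.symm
  have hUV : (⨆ j : r, W j) ≤ V := iSup_le fun j => hWV j
  have hVel := elab_V h hp
  have hLV : NoFF.Basic.V (⨆ j : r, W j) F ≤ NoFF.Basic.V V F :=
    NoFF.Basic.V_le fun f hf => (cj_mono f hUV).trans (NoFF.Basic.Z_le_V hf)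
  have hΛ : IsElementaryAbelian 2 (NoFF.Basic.V (⨆ j : r, W j) F) := Swap.elab_mono hVel hLV
  have hUF : (⨆ j : r, W j) ≤ F := hUV.trans (hp.VO.trans (o2_le F))
  have hTperm : ∀ t ∈ T, ∀ i : r, ∃ j : r, cj t (W i) = W j := by
    rintro t ht ⟨i, hi⟩
    obtain ⟨j, hj1, hj2, -⟩ := h.exists_perm (s.TS ht) i
    exact ⟨⟨j, hrT t ht i _ hj1 hi⟩, hj2⟩
  have hOne : Swap.Fam.One F T (F ⊓ X) 𝓐 (⨆ j : r, W j) (fun j : r => W j) (fun j : r => Z j) :=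
    { syl := hp.syl
      TF₀ := le_inf hTF hTM
      F₀F := lt_of_le_of_ne inf_le_left fun e => hp.nM (inf_eq_left.1 e)
      max := fun K hTK hKF => le_inf hKF.le (hp.min K hTK hKF)
      fam := hfam _ hΛ (NoFF.Basic.V_le fun f hf => by
        have := cj_mono f hUF
        rwa [cj_eq_of_mem_normalizer (le_normalizer hf)] at this) OmThm.XD.X_le_normalizer_W hLV
      nJ := hnJ
      ne := ⟨⟨i₀, hi₀r⟩⟩
      UO := hUV.trans hp.VO
      TU := fun t ht => by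
        rw [mem_normalizer_iff_cj]
        refine Subgroup.eq_of_le_of_card_ge ?_ (by rw [card_cj])
        rw [cj_le_iff]
        refine iSup_le fun j => ?_
        obtain ⟨l, hl⟩ := hTperm t ht j
        rw [← cj_le_iff, hl]
        exact le_iSup (fun j : r => W j) l
      comm := Swap.elab_comm hΛ
      sq := Swap.elab_sq hΛ
      sup := rfl
      H1 := fun i f hf hfz => by
        obtain ⟨z, hz, hz1⟩ := h.exists_ne hq (i : ι)
        exact ⟨hf, hNW i i.2 z (h.ZW i hz) hz1 f (hFY₀ hf) (hfz z hz)⟩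
      H2 := fun E hE hET i => (hA E hE hET).2 i
      H3 := fun i => by
        obtain ⟨o, ho, j, hj, e⟩ := hmv i i.2
        have h1 := h.h3 hq (O := o2 F) (j := (i : ι)) (fun a ha o ho => ?_) (inv_mem ho) ?_ (h.BW hq i)
        · exact h1.trans (commutator_mono (le_iSup (fun j : r => W j) i) le_rfl)
        · have h2 : a ∈ F := hTF (hp.BT (h.AB i ha))
          exact (mem_normalizer_iff.1 (le_normalizer_o2 F h2) o).1 ho
        · rw [inv_inv, h.W_cj (s.TS (hO ho)) e]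
          exact h.WjC i j hj.symm
      H4 := by
        rintro f ⟨hf, hfU⟩
        refine ⟨hf, hH4 ⟨hFY₀ hf, ?_⟩⟩
        rwa [← hsup] }
  have h16 : ∀ i : r, 16 ≤ Nat.card (W (i : ι)) := fun i => by
    rw [h.cardW]
    exact Nat.mul_le_mul (hK i) (hK i)
  have hcost := cost_blocks (T := T) (U := ⨆ j : r, W j) (V := fun j : r => W j) rfl
    (fun x hx y hy => h.Vc (hUV hx) (hUV hy))
    (fun x hx => h.V2 (hUV hx)) ?_ hTperm h16
  · refine hOne.false_of_count ?_ hcost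
    rintro x - ⟨hx1, i, hxi⟩ f hf hfx
    exact ⟨hf, hNW i i.2 x hxi hx1 f (hFY₀ hf) hfx⟩
  · rintro ⟨i, hi⟩ x hx hx'
    have h1 : (⨆ j : r, ⨆ _ : j ≠ ⟨i, hi⟩, W (j : ι)) ≤ C i := by
      refine iSup_le fun j => iSup_le fun hj => ?_
      exact h.WjC i j fun e => hj (Subtype.ext e.symm)
    have h2 : x ∈ W i ⊓ C i := mem_inf.2 ⟨hx, h1 hx'⟩
    rwa [h.dir i, mem_bot] at h2

end Cfsg.Agent.Omega.OM.SwapV.Q

end

section


/-!
# (Om) for `q ≥ 4` over an abstract `V`, CASE II: `T` normalises all `Z i`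

* `Cor.cj` : the coordinates on `W i` for `T ≤ S` which normalises `Z i`;
* `exists_o`, `norm_Z`;
* **`caseTwo`** : `T` centralises all `Z i` with `q i ≠ 4`.
-/

set_option autoImplicit false
set_option linter.unusedSectionVars false

namespace Cfsg.Agent.Omega.OM.SwapV.Q

open Subgroup Cfsg Cfsg.Agent.ZN.ChoiceBase Cfsg.Agent.ZN.ChoiceSit
open Cfsg.Agent.ZN (jj zj bau zc zl o2)
open Cfsg.Agent.Omega.OM.LevD (LB K0)
open Cfsg.Agent.Omega.OM.WeakCl (WC)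
open Cfsg.Agent.Omega.OM.SWQ.CaseTwo (Cj)

universe u

variable {G : Type u} [Group G] [Finite G]

variable {ι : Type} [Finite ι] {S : Sylow 2 G} {K B V ZJ : Subgroup G} {L W Z C A : ι → Subgroup G} {q : ι → ℕ}

/-- The coordinates on `U = W i`. -/
theorem Cor.cj (h : Gr S K B V ZJ L W Z C A q) {T : Subgroup G} (hTS : T ≤ (S : Subgroup G)) (hBT : B ≤ T) {i : ι}
    (hT : ∀ t ∈ T, cj t (Z i) = Z i) {E : Type} [Field E] {e : G → E × E}
    (c : Cor E (S : Subgroup G) B L W Z i e) : Cj E T B (W i) (Z i) e where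
  TU := fun t ht => by
    rw [mem_normalizer_iff_cj]
    exact (h.perm t (hTS ht) i i (hT t ht)).1
  BT := hBT
  Uc := fun v hv w hw => h.Vc (h.WV i hv) (h.WV i hw)
  U2 := fun v hv => h.V2 (h.WV i hv)
  mul := c.mul
  inj := c.inj
  surj := c.surj
  memZ := c.memZ
  act := fun t ht => c.act t (hTS ht) (hT t ht)
  full := c.full
  BZ := fun b hb z hz => h.cB hb (h.Zle i hz)

/-- `O₂(F)` does not centralise `Z j`. -/
theorem exists_o (h : Gr S K B V ZJ L W Z C A q) {X T F : Subgroup G} (hp : PairV B V ZJ X T F) {j : ι}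
    (hne : ¬ Z j ≤ centralizer (T : Set G)) : ∃ o ∈ o2 F, ∃ z ∈ Z j, o * z ≠ z * o := by
  by_contra hcon
  push Not at hcon
  apply hne
  intro z hz
  have h1 : z ∈ centralizer (F : Set G) :=
    hp.fix ⟨h.Zle j hz, mem_centralizer_iff.2 fun o ho => hcon o ho z hz⟩
  exact centralizer_le (by exact_mod_cast hp.syl.1) h1

/-- (**) `N_F(Z j) ≤ X` -/
theorem norm_Z (h : Gr S K B V ZJ L W Z C A q) {X T F : Subgroup G} (hp : PairV B V ZJ X T F)
    (hN : normalizer (B : Set G) ≤ X) {j : ι}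
    (H1 : ∀ f ∈ F, (∀ x ∈ Z j, f * x = x * f) → f ∈ X) {f : G} (hf : f ∈ F) (hfZ : cj f (Z j) = Z j) : f ∈ X := by
  set Q : Subgroup G := F ⊓ centralizer (Z j : Set G) with hQ
  have hB : B ≤ Q :=
    le_inf (hp.BT.trans hp.syl.1) (h.lb.Bc.trans (centralizer_le (by exact_mod_cast h.Zle j)))
  obtain ⟨R, hR, hBR⟩ := exists_syl h.lb.Bp hB
  have hQf : cj f Q = Q := by
    rw [hQ, cj_inf, cj_centralizer, hfZ, cj_eq_of_mem_normalizer (le_normalizer hf)]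
  have hR' : Syl (cj f R) Q := by
    refine ⟨(cj_mono f hR.1).trans hQf.le, isPGroup_cj f hR.2.1, fun T' hT' hp' hle => ?_⟩
    have h3 : cj f⁻¹ T' ≤ Q := by
      have := cj_mono f⁻¹ hT'
      rwa [← hQf, cj_inv_cj] at this
    have h4 := hR.2.2 (cj f⁻¹ T') h3 (isPGroup_cj _ hp') (cj_le_iff.1 hle)
    rw [← h4, cj_cj_inv]
  obtain ⟨x, hx, e⟩ := syl_conj hR' hR
  have h5 : cj (x * f) R = R := by rw [← cj_cj]; exact e
  have h6 : cj (x * f) B = B := by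
    have h7 : cj (x * f) B ≤ R := (cj_mono _ hBR).trans h5.le
    exact h.wc R hR.2.1 hBR (x * f) h7
  have h8 : x * f ∈ X := hN (mem_normalizer_iff_cj.2 h6)
  have h9 : x ∈ X := H1 x hx.1 fun z hz => (mem_centralizer_iff.1 hx.2 z hz).symm
  have := mul_mem (inv_mem h9) h8
  rwa [inv_mul_cancel_left] at this

/-- **CASE II** -/
theorem caseTwo (h : Gr S K B V ZJ L W Z C A q) (_hq : ∀ i, 4 ≤ q i) {X T F : Subgroup G}
    (s : Sel S B V ZJ Z X T F) (_hL : ∀ i, L i ≤ X) (hD : centralizer (ZJ : Set G) ≤ X)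
    (hN : normalizer (B : Set G) ≤ X) (hall : ∀ i, i ∈ Phi Z T) :
    ∀ i, q i ≠ 4 → Z i ≤ centralizer (T : Set G) := by
  intro j hj4
  by_contra hj
  obtain ⟨E, _, _, _, hE, e, c'⟩ := h.co j
  have h4E : Nat.card E ≠ 4 := by rwa [hE]
  have hp := s.pair
  have hT2 := hp.syl.2.1
  have hO : o2 F ≤ T := o2_le_syl hp.syl
  have hZM : normalizer (ZJ : Set G) ≤ X := h.lb.norm_zj_le.trans (sup_le hD hN)
  have hTM : T ≤ X := (h.lb.two_le hT2 hp.BT).trans hN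
  have c : Cj E T B (W j) (Z j) e := Cor.cj h s.TS hp.BT (fun t ht => hall j t ht) c'
  -- centralisers
  have hNb : ∀ x ∈ Z j, x ∉ centralizer (T : Set G) → ∀ f ∈ F, f * x = x * f → f ∈ X := by
    intro x hx hxT f hf hfx
    have hY : (ZJ ⊓ centralizer (T : Set G)) ⊔ zpowers x ≤ ZJ :=
      sup_le inf_le_left (by rw [zpowers_le]; exact h.Zle j hx)
    have hlt : ZJ ⊓ centralizer (T : Set G) < (ZJ ⊓ centralizer (T : Set G)) ⊔ zpowers x := by
      refine lt_of_le_of_ne le_sup_left fun e => hxT ?_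
      have h1 : x ∈ (ZJ ⊓ centralizer (T : Set G)) ⊔ zpowers x := mem_sup_right (mem_zpowers x)
      rw [← e] at h1
      exact h1.2
    refine s.cen2 hall _ hY hlt ?_
    have h2 : (ZJ ⊓ centralizer (T : Set G)) ⊔ zpowers x ≤ centralizer ({f} : Set G) := by
      refine sup_le (fun z hz => ?_) ?_
      · rw [mem_centralizer_singleton_iff]
        have h3 : z ∈ centralizer (F : Set G) := hp.fix ⟨hz.1, centralizer_le (by exact_mod_cast hO) hz.2⟩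
        exact (mem_centralizer_iff.1 h3 f hf).symm
      · rw [zpowers_le, mem_centralizer_singleton_iff]
        exact hfx.symm
    exact mem_centralizer_iff.2 fun z hz => mem_centralizer_singleton_iff.1 (h2 hz)
  have H1 : ∀ f ∈ F, (∀ x ∈ Z j, f * x = x * f) → f ∈ X := by
    intro f hf hx
    obtain ⟨x, hx1, hx2⟩ := SetLike.not_le_iff_exists.1 hj
    exact hNb x hx1 hx2 f hf (hx x hx1)
  have hTO : T ≤ normalizer (o2 F : Set G) := hp.syl.1.trans (le_normalizer_o2 F)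
  have ho := exists_o h hp hj
  -- the situation
  obtain ⟨𝓐, hfam, hnJ, hA⟩ := h.fam X T F hp hD hTM hZM
  have hVel := elab_V h hp
  have hUV : W j ≤ V := h.WV j
  have hLV : NoFF.Basic.V (W j) F ≤ NoFF.Basic.V V F :=
    NoFF.Basic.V_le fun f hf => (cj_mono f hUV).trans (NoFF.Basic.Z_le_V hf)
  have hUO : W j ≤ o2 F := hUV.trans hp.VO
  have hUF : W j ≤ F := hUO.trans (o2_le F)
  have hLF : NoFF.Basic.V (W j) F ≤ F := by
    refine NoFF.Basic.V_le fun f hf => ?_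
    have := cj_mono f hUF
    rwa [cj_eq_of_mem_normalizer (le_normalizer hf)] at this
  have hel := Swap.elab_mono hVel hLV
  have hone : Swap.Fam.One F T (F ⊓ X) 𝓐 (W j) (fun _ : Unit => W j) (fun _ : Unit => Z j) :=
    { syl := hp.syl
      TF₀ := le_inf hp.syl.1 hTM
      F₀F := lt_of_le_of_ne inf_le_left fun e => hp.nM (inf_eq_left.1 e)
      max := fun K hTK hKF => le_inf hKF.le (hp.min K hTK hKF)
      fam := hfam _ hel hLF OmThm.XD.X_le_normalizer_W hLV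
      nJ := hnJ
      ne := ⟨()⟩
      UO := hUO
      TU := c.TU
      comm := fun x hx y hy => SQ1.Bau.elem_comm hel x hx y hy
      sq := fun x hx => by
        have := SQ1.Bau.elem_sq hel x hx
        rwa [pow_two] at this
      sup := by rw [iSup_const]
      H1 := fun _ f hf hx => ⟨hf, H1 f hf hx⟩
      H2 := fun E hE hET _ => (hA E hE hET).2 j
      H3 := fun _ => c.h3 hO hTO ho
      H4 := by
        rintro f ⟨hf, hfU⟩
        refine ⟨hf, norm_Z h hp hN H1 hf ?_⟩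
        exact c.h4 hT2 h4E hO hTO ho (cj_eq_of_mem_normalizer (le_normalizer_o2 F hf)) hfU }
  exact hone.false_of_count (fun x _ hb f hf hfx => ⟨hf, hNb x hb.1 hb.2 f hf hfx⟩) (c.cost hT2 h4E hj)

end Cfsg.Agent.Omega.OM.SwapV.Q

end

end

-- merged: Cfsg.Agent.Mrg.Omega.OM.SwapV.Q.CaseFour
section

/-!
# (Om) over an abstract `V`, all `q i = 4`, `T` normalises all `Z i`

* `Cor.map` : transport of coordinates along an isomorphism of fields; `exists_cor` : one field of order `4`;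
* `Four` : the situation; `Four.exists_u`, `Four.thr`, `Four.oneF`;
* **`caseFour`**.
-/

set_option autoImplicit false
set_option linter.unusedSectionVars false

namespace Cfsg.Agent.Omega.OM.SwapV.Q

open Subgroup Cfsg Cfsg.Agent.ZN.ChoiceBase Cfsg.Agent.ZN.ChoiceSit
open Cfsg.Agent.ZN (jj zj bau zc zl o2)
open Cfsg.Agent.MinSimple.MinParabolic (IsMinPar)
open Cfsg.Agent.MinSimple.VModule (oddGen oddGen_le mem_oddGen oddGen_def)
open Cfsg.Agent.Omega.OM.FourF (Act Co Thr OneF Lin Sem conjW aut4)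

universe u

variable {G : Type u} [Group G]

/-- transport of the coordinates -/
theorem Cor.map {ι : Type} {F F' : Type} [Field F] [Field F'] {S B : Subgroup G} {L W Z : ι → Subgroup G} {i : ι}
    {e : G → F × F} (c : Cor F S B L W Z i e) (φ : F ≃+* F') :
    Cor F' S B L W Z i fun v => (φ (e v).1, φ (e v).2) where
  mul := fun v hv w hw => by
    ext
    · simp [c.mul v hv w hw]
    · simp [c.mul v hv w hw]
  inj := fun v hv w hw h => by
    refine c.inj v hv w hw (Prod.ext ?_ ?_)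
    · exact φ.injective (congrArg Prod.fst h)
    · exact φ.injective (congrArg Prod.snd h)
  surj := fun p => by
    obtain ⟨v, hv, h⟩ := c.surj (φ.symm p.1, φ.symm p.2)
    refine ⟨v, hv, ?_⟩
    rw [h]
    simp
  memZ := fun v => by
    rw [c.memZ]
    simp
  act := fun t ht hZ => by
    obtain ⟨s, l, h⟩ := c.act t ht hZ
    refine ⟨(φ.symm.trans s).trans φ, φ l, fun w hw => ?_⟩
    show (φ (e (t * w * t⁻¹)).1, φ (e (t * w * t⁻¹)).2) = _
    rw [h w hw]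
    simp
  full := fun l => by
    obtain ⟨b, hb, h⟩ := c.full (φ.symm l)
    refine ⟨b, hb, fun w hw => ?_⟩
    show (φ (e (b * w * b⁻¹)).1, φ (e (b * w * b⁻¹)).2) = _
    rw [h w hw]
    simp
  sl := fun a b x d hd => by
    obtain ⟨g, hg, h1, h2, h3⟩ := c.sl (φ.symm a) (φ.symm b) (φ.symm x) (φ.symm d) (by
      rw [← map_mul, ← map_mul, ← map_sub, hd, map_one])
    refine ⟨g, hg, h1, fun w hw => ?_, h3⟩
    show (φ (e (g * w * g⁻¹)).1, φ (e (g * w * g⁻¹)).2) = _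
    rw [h2 w hw]
    simp

/-- a field of order `4` -/
theorem exists_field : ∃ (K : Type) (_ : Field K) (_ : Finite K) (_ : CharP K 2), Nat.card K = 4 := by
  have : Fact (Nat.Prime 2) := ⟨Nat.prime_two⟩
  refine ⟨GaloisField 2 2, inferInstance, inferInstance, inferInstance, ?_⟩
  rw [GaloisField.card 2 2 two_ne_zero]
  norm_num

variable [Finite G] {ι : Type} [Finite ι] {S : Sylow 2 G} {K B V ZJ : Subgroup G} {L W Z C A : ι → Subgroup G}
  {q : ι → ℕ}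

/-- the coordinates over one field -/
theorem exists_cor (h : Gr S K B V ZJ L W Z C A q) (h4 : ∀ i, q i = 4) {E : Type} [Field E] [Finite E] [CharP E 2]
    (hE : Nat.card E = 4) (i : ι) : ∃ e : G → E × E, Cor E (S : Subgroup G) B L W Z i e := by
  obtain ⟨F, _, _, _, hF, e, c⟩ := h.co i
  have : Fact (Nat.Prime 2) := ⟨Nat.prime_two⟩
  have := Fintype.ofFinite F
  have := Fintype.ofFinite E
  have hc : Fintype.card F = Fintype.card E := by
    rw [← Nat.card_eq_fintype_card, ← Nat.card_eq_fintype_card, hF, hE, h4 i]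
  exact ⟨_, c.map (FiniteField.ringEquivOfCardEq hc)⟩

/-- The situation. -/
structure Four (S : Sylow 2 G) (K B V ZJ : Subgroup G) (L W Z C A : ι → Subgroup G) (q : ι → ℕ)
    (X T Y : Subgroup G) (E : Type) [Field E] (e : ι → G → E × E) : Prop where
  gr : Gr S K B V ZJ L W Z C A q
  pair : PairV B V ZJ X T Y
  TS : T ≤ (S : Subgroup G)
  LX : ∀ i, L i ≤ X
  hD : centralizer (ZJ : Set G) ≤ X
  hN : normalizer (B : Set G) ≤ X
  hZ : ∀ i, ∀ t ∈ T, cj t (Z i) = Z i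
  card : Nat.card E = 4
  cor : ∀ i, Cor E (S : Subgroup G) B L W Z i (e i)

namespace Four

variable {X T Y : Subgroup G} {E : Type} [Field E] [CharP E 2] {e : ι → G → E × E}
  (c : Four S K B V ZJ L W Z C A q X T Y E e)
include c

theorem nW {t : G} (ht : t ∈ T) (i : ι) : t ∈ normalizer (W i : Set G) := by
  rw [mem_normalizer_iff_cj]
  exact (c.gr.perm t (c.TS ht) i i (c.hZ i t ht)).1

theorem act4 {t : G} (ht : t ∈ T) (i : ι) : ∃ l : E, Act (W i) (e i) t (fun p => (p.1 + l * p.2, p.2)) ∨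
    Act (W i) (e i) t (fun p => (p.1 * p.1 + l * (p.2 * p.2), p.2 * p.2)) := by
  obtain ⟨s, l, hl⟩ := (c.cor i).act t (c.TS ht) (c.hZ i t ht)
  refine ⟨l, ?_⟩
  rcases aut4 c.card s with hs | hs
  · left
    intro w hw
    rw [hl w hw]
    simp only [hs]
  · right
    intro w hw
    rw [hl w hw]
    simp only [hs]

theorem exists_u (i : ι) : ∃ u ∈ Z i, e i u = (1, 0) ∧ ∀ y ∈ Y, y * u = u * y := by
  obtain ⟨u, huW, hue⟩ := (c.cor i).surj (1, 0)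
  have hu : u ∈ Z i := ((c.cor i).memZ u).2 ⟨huW, by rw [hue]⟩
  refine ⟨u, hu, hue, ?_⟩
  have hO : o2 Y ≤ T := o2_le_syl c.pair.syl
  have h1 : ∀ t ∈ T, t * u = u * t := by
    intro t ht
    have htW : t * u * t⁻¹ ∈ W i := conjW (c.nW ht i) huW
    refine mul_inv_eq_iff_eq_mul.1 ((c.cor i).inj _ htW _ huW ?_)
    obtain ⟨l, hl | hl⟩ := c.act4 ht i
    · rw [hl u huW, hue]
      ext <;> simp
    · rw [hl u huW, hue]
      ext <;> simp
  intro y hy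
  have h2 : u ∈ centralizer (Y : Set G) :=
    c.pair.fix ⟨c.gr.Zle i hu, mem_centralizer_iff.2 fun o ho => h1 o (hO ho)⟩
  exact mem_centralizer_iff.1 h2 y hy

theorem e_one (i : ι) : e i 1 = 0 := by
  have h1 := (c.cor i).mul 1 (one_mem _) 1 (one_mem _)
  rw [mul_one] at h1
  exact left_eq_add.1 h1

theorem toCo {i : ι} {u : G} (hu : u ∈ Z i) (hue : e i u = (1, 0)) : Co (W i) (Z i) u (e i) where
  mul := (c.cor i).mul
  ker := fun v hv h0 => (c.cor i).inj v hv 1 (one_mem _) (by rw [h0, c.e_one])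
  surj := (c.cor i).surj
  memZ := (c.cor i).memZ
  uW := c.gr.ZW i hu
  eu := hue

theorem TX : T ≤ X := (c.gr.lb.two_le c.pair.syl.2.1 c.pair.BT).trans c.hN

theorem hZM : normalizer (ZJ : Set G) ≤ X := c.gr.lb.norm_zj_le.trans (sup_le c.hD c.hN)

theorem hfull (i : ι) (l : E) : ∃ t ∈ T, Act (W i) (e i) t (fun p => (p.1 + l * p.2, p.2)) := by
  obtain ⟨b, hb, h1⟩ := (c.cor i).full l
  exact ⟨b, c.pair.BT hb, h1⟩

/-- the structure `Thr` -/
theorem thr {u : ι → G} (hu : ∀ i, u i ∈ Z i) (hue : ∀ i, e i (u i) = (1, 0))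
    (huY : ∀ i, ∀ y ∈ Y, y * u i = u i * y) : Thr Y T X W Z u e where
  card := c.card
  syl := c.pair.syl
  TM := c.TX
  co := fun i => c.toCo (hu i) (hue i)
  TN := fun i t ht => c.nW ht i
  act := fun i t ht => c.act4 ht i
  full := c.hfull
  sl := fun i a b x d hd => by
    obtain ⟨g, hg, h1, h2, h3⟩ := (c.cor i).sl a b x d hd
    exact ⟨g, c.LX i hg, h1, h2, h3⟩
  NM := fun g hg => by
    have h1 : g ∈ normalizer (ZJ : Set G) := by
      have h2 : ZJ = ⨆ i, Z i := le_antisymm c.gr.sup (iSup_le c.gr.Zle)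
      rw [mem_normalizer_iff_cj, h2, Swap.cj_iSup]
      exact iSup_congr hg
    exact c.hZM h1
  Xu := huY
  fix := fun i hi x hx z hz => by
    have h2 : z ∈ centralizer (Y : Set G) :=
      c.pair.fix ⟨c.gr.Zle i hz, mem_centralizer_iff.2 fun o ho => hi o ho z hz⟩
    exact mem_centralizer_iff.1 h2 x hx

/-- the structure `OneF` for the index `i` -/
theorem oneF {i : ι} {u : G} (hu : u ∈ Z i) (hue : e i u = (1, 0)) (huY : ∀ y ∈ Y, y * u = u * y) :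
    ∃ 𝓐 : Set (Subgroup G), OneF E Y T 𝓐 (W i) (Z i) u (e i) := by
  obtain ⟨𝓐, hfam, hnJ, hA⟩ := c.gr.fam X T Y c.pair c.hD c.TX c.hZM
  have hVel := elab_V c.gr c.pair
  have hUV : W i ≤ V := c.gr.WV i
  have hLV : NoFF.Basic.V (W i) Y ≤ NoFF.Basic.V V Y :=
    NoFF.Basic.V_le fun f hf => (cj_mono f hUV).trans (NoFF.Basic.Z_le_V hf)
  have hUO : W i ≤ o2 Y := hUV.trans c.pair.VO
  have hUF : W i ≤ Y := hUO.trans (o2_le Y)
  have hLF : NoFF.Basic.V (W i) Y ≤ Y := by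
    refine NoFF.Basic.V_le fun f hf => ?_
    have := cj_mono f hUF
    rwa [cj_eq_of_mem_normalizer (le_normalizer hf)] at this
  have hel := Swap.elab_mono hVel hLV
  have hlin : ∀ b ∈ B, b ∈ T → ∃ l, Lin (e i) (W i) l b := by
    intro b hb hbT
    obtain ⟨l, hl | hl⟩ := c.act4 hbT i
    · exact ⟨l, hl⟩
    · exfalso
      obtain ⟨w, hw⟩ := FourF.exists_w c.card
      obtain ⟨v, hvW, hve⟩ := (c.cor i).surj (w, 0)
      have hv : v ∈ Z i := ((c.cor i).memZ v).2 ⟨hvW, by rw [hve]⟩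
      have h1 := hl v hvW
      have h2 : b * v * b⁻¹ = v := by
        rw [c.gr.cB hb (c.gr.Zle i hv)]; group
      rw [h2, hve] at h1
      have h4 := congrArg Prod.fst h1
      simp only [mul_zero, add_zero] at h4
      rw [← pow_two, hw] at h4
      simp at h4
  refine ⟨𝓐, ?_⟩
  exact
  { cardK := c.card
    TU := fun t ht => c.nW ht i
    Uc := fun v hv w hw => c.gr.Vc (hUV hv) (hUV hw)
    U2 := fun v hv => c.gr.V2 (hUV hv)
    uU := c.gr.ZW i hu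
    eu := hue
    ZU := c.gr.ZW i
    mul := (c.cor i).mul
    inj := (c.toCo hu hue).ker
    surj := (c.cor i).surj
    memZ := fun v hv => by
      rw [(c.cor i).memZ]
      exact ⟨fun h => h.2, fun h => ⟨hv, h⟩⟩
    act := fun t ht => by
      obtain ⟨l, hl | hl⟩ := c.act4 ht i
      · exact ⟨l, Or.inl hl⟩
      · refine ⟨l, Or.inr fun v hv => ?_⟩
        rw [hl v hv]
        simp only [pow_two]
    syl := c.pair.syl
    par := c.pair.minPar c.gr.lb c.hZM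
    UO := hUO
    comm := fun x hx y hy => SQ1.Bau.elem_comm hel x hx y hy
    sq := fun x hx => by
      rw [← pow_two]
      exact SQ1.Bau.elem_sq hel x hx
    uF := huY
    fam := hfam _ hel hLF OmThm.XD.X_le_normalizer_W hLV
    nJ := hnJ
    lin := fun A hA' hAT a ha => hlin a ((hA A hA' hAT).1 ha) (hAT ha)
    full := fun l => by
      obtain ⟨b, hb, h1⟩ := (c.cor i).full l
      exact ⟨b, c.pair.BT hb, h1⟩ }

theorem false : False := by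
  choose u hu hue huY using c.exists_u
  have ht := c.thr hu hue huY
  refine c.pair.nM (ht.le fun i => ?_)
  obtain ⟨𝓐, h1⟩ := c.oneF (hu i) (hue i) (huY i)
  have hfix : o2 Y ≤ centralizer (Z i : Set G) → Y ≤ centralizer (Z i : Set G) := by
    intro hi x hx
    refine mem_centralizer_iff.2 fun z hz => ?_
    have h3 : z ∈ centralizer (Y : Set G) :=
      c.pair.fix ⟨c.gr.Zle i hz, mem_centralizer_iff.2 fun o ho => (mem_centralizer_iff.1 (hi ho) z hz).symm⟩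
    exact (mem_centralizer_iff.1 h3 x hx).symm
  rcases h1.main hfix with h2 | h2
  · right
    intro x hx z hz
    exact (mem_centralizer_iff.1 (h2 hx) z hz).symm
  · exact Or.inl h2

end Four

/-- **(4F) over an abstract `V`.** -/
theorem caseFour (h : Gr S K B V ZJ L W Z C A q) {X T Y : Subgroup G} (s : Sel S B V ZJ Z X T Y)
    (hL : ∀ i, L i ≤ X) (hD : centralizer (ZJ : Set G) ≤ X) (hN : normalizer (B : Set G) ≤ X)
    (hall : ∀ i, i ∈ Phi Z T) (h4 : ∀ i, q i = 4) : False := by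
  obtain ⟨E, _, _, _, hE⟩ := exists_field
  choose e he using exists_cor h h4 hE
  exact Four.false (e := e) ⟨h, s.pair, s.TS, hL, hD, hN, fun i t ht => hall i t ht, hE, he⟩

end Cfsg.Agent.Omega.OM.SwapV.Q

end

-- merged: Cfsg.Agent.Mrg.Omega.OM.SwapV.Q.Main
section

section


/-!
# (Om) for `q ≥ 4` over an abstract `V`

`Gr.le_of_char2` : every subgroup of characteristic 2 over `B` is contained in every `X ≥ C_G(Z_J), L_i, N_G(B)`
with `BMV K B X`.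
-/

set_option autoImplicit false
set_option linter.unusedSectionVars false

namespace Cfsg.Agent.Omega.OM.SwapV.Q

open Subgroup Cfsg Cfsg.Agent.ZN.ChoiceBase Cfsg.Agent.ZN.ChoiceSit
open Cfsg.Agent.ZN (jj zj bau zc zl o2)

universe u

variable {G : Type u} [Group G] [Finite G]

variable {ι : Type} [Finite ι] {S : Sylow 2 G} {K B V ZJ : Subgroup G} {L W Z C A : ι → Subgroup G} {q : ι → ℕ}

/-- **(Om), `q ≥ 4`.** -/
theorem Gr.le_of_char2 (h : Gr S K B V ZJ L W Z C A q) (hne : Nonempty ι) (hq : ∀ i, 4 ≤ q i)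
    (h4 : ∀ i j, q i = 4 → q j = 4) {X H : Subgroup G} (hBM : BMV K B X) (hL : ∀ i, L i ≤ X)
    (hD : centralizer (ZJ : Set G) ≤ X) (hN : normalizer (B : Set G) ≤ X)
    (hB : B ≤ H) (hc : H ⊓ centralizer (o2 H : Set G) ≤ o2 H) : H ≤ X := by
  by_contra hM
  obtain ⟨T, F, s⟩ := exists_sel h (fun i => by have := hq i; omega) hne hBM hD hN hB hc hM
  have hall := phi_univ h hq s hL hD hN
  by_cases h0 : ∃ i, q i = 4
  · obtain ⟨i, hi⟩ := h0
    exact caseFour h s hL hD hN hall fun j => h4 i j hi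
  · push Not at h0
    have h1 := caseTwo h hq s hL hD hN hall
    have hp := s.pair
    have hO : o2 F ≤ T := o2_le_syl hp.syl
    apply hp.nM
    have h2 : ZJ ≤ centralizer (F : Set G) := by
      intro z hz
      refine hp.fix ⟨hz, centralizer_le (by exact_mod_cast hO) ?_⟩
      exact (iSup_le fun i => h1 i (h0 i)) (h.sup hz)
    exact (le_centralizer_iff.1 h2).trans hD

end Cfsg.Agent.Omega.OM.SwapV.Q

end

section


/-!
# (Om) for `q > 2` over an abstract `V`, stage `n ≥ 0`: low blocks, `K0`, the nonlocality statement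

* `lowQ` : `q > 2`: a minimal parabolic `Y` over `T ≥ B` which moves `Ω₁Z(T)` has `lev S n ≤ O₂(Y)`;
* `LnQ.K0_le` : `K0 ≤ ⟨C_G(Z_J ∩ C i) : i⟩` (all FF-blocks over `B`);
* `LnQ.fam'` ; `LnQ.nonLoc` : if all `C_G(Z_J ∩ C i)` normalise a 2-group `≠ 1` then `M = N_G(O)`, `O = O₂(K0) ≠ 1`,
  contains `N_G(B)`, all minimal parabolics over `T ≥ B` which move `Ω₁Z(T)`, and (`Main2`) all subgroups of
  characteristic 2 over `B`.
-/

set_option autoImplicit false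
set_option linter.unusedSectionVars false

namespace Cfsg.Agent.Omega.OM.SwapV.Q

open Subgroup Cfsg Cfsg.Agent.ZN.ChoiceBase Cfsg.Agent.ZN.ChoiceSit
open Cfsg.Agent.ZN (jj zj bau zc zl o2)
open Cfsg.Agent.MinSimple.MinParabolic (IsMinPar)
open Cfsg.Agent.Omega.NO3S.Level (lev Lev lev_isLev)
open Cfsg.Agent.Omega.OM.LevD (LB K0 Fam)
open Cfsg.Agent.Omega.OM.LevB (FBlk)
open Cfsg.Agent.Omega.OM.Lev.Uni (FrL)
open Cfsg.Agent.Omega.OM.SwapL (ZL BL lb wc)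

universe u

/-- The conclusion of (Om) for the frame `Gr`. -/
def Main2 : Prop :=
  ∀ (G : Type u) [Group G] [Finite G] (ι : Type) [Finite ι] (S : Sylow 2 G) (K B V ZJ : Subgroup G)
    (L W Z C A : ι → Subgroup G) (q : ι → ℕ), Nonempty ι → Gr S K B V ZJ L W Z C A q → (∀ i, 4 ≤ q i) →
      (∀ i j, q i = 4 → q j = 4) → ∀ X H : Subgroup G, BMV K B X → (∀ i, L i ≤ X) →
        centralizer (ZJ : Set G) ≤ X → normalizer (B : Set G) ≤ X → B ≤ H →
          H ⊓ centralizer (o2 H : Set G) ≤ o2 H → H ≤ X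

variable {G : Type u} [Group G] [Finite G]

section line

variable {ι : Type} [Finite ι] {S : Sylow 2 G} {V Q : Subgroup G} {n : ℕ} {L W Z C A : ι → Subgroup G} {q : ℕ}

/-- **(LL), `q > 2`.** -/
theorem lowQ (h : FrL (BL (S : Subgroup G) n) Q V (zc (lev (S : Subgroup G) n)) (ZL (S : Subgroup G) n) L W Z C A q)
    (hq : 2 < q) {T Y : Subgroup G} (hT : Syl T Y)
    (hB : BL (S : Subgroup G) n ≤ T) (hP : IsMinPar T Y) (hc : Y ⊓ centralizer (o2 Y : Set G) ≤ o2 Y)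
    (hZ : ¬ Y ≤ centralizer (zc T : Set G)) : lev (S : Subgroup G) n ≤ o2 Y := by
  by_contra hn
  obtain ⟨j, hj, hlow, hnj⟩ := Lev.Low.exists_stg (S : Subgroup G) hn
  have hBj : LevB.BL (S : Subgroup G) j ≤ T := (Lev.Low.BL_mono (S : Subgroup G) (by omega : j ≤ n + 1)).trans hB
  obtain ⟨Λ, _, N, c, hy, l, hl⟩ := Lev.Low.exists_ybj S hT hBj hP hc hlow hnj hZ
  have h1 := Lev.Low.no_low h hq hy (LowZ.qv h hT.2.1 hB hj) hB l
  exact hl ((Lev.Low.zc_T_le S hT.2.1 hB).trans h1)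

/-- the members of `K0` -/
theorem LnQ.fblk (h : LnQ S V Q n L W Z C A q) (i : ι) : FBlk (BL (S : Subgroup G) n) (L i) (W i) where
  fb := ⟨_, _, h.fr.blk i⟩
  blk := (h.fr.blk i).toBlock (h.fr.cardZ i) (lb S n).Bp (lb S n).weakNormal

theorem LnQ.W_all (h : LnQ S V Q n L W Z C A q) : ZL (S : Subgroup G) n ≤ ⨆ i, W i :=
  (Lev.Low.zj_le h.fr fun i => ((h.fr.blk i).ZV.trans (le_iSup W i)))

theorem LnQ.fam' (h : LnQ S V Q n L W Z C A q) :
    Fam (BL (S : Subgroup G) n) (ZL (S : Subgroup G) n) (FBlk (BL (S : Subgroup G) n)) :=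
  LevB.fam ((LnQ.W_all h).trans (iSup_le fun i => le_iSup
    (fun i : {x : Subgroup G × Subgroup G // FBlk (BL (S : Subgroup G) n) x.1 x.2} => i.1.2) ⟨(L i, W i), h.fblk i⟩))

/-- **`K0 ≤ ⟨C_G(Z_J ∩ C i) : i⟩`** (every FF-block over `B` has its module in `Ω₁Z(lev S n)`, and UNI+). -/
theorem LnQ.K0_le [Nonempty ι] (h : LnQ S V Q n L W Z C A q) : K0 (ZL (S : Subgroup G) n) (FBlk (BL (S : Subgroup G) n)) ≤
    ⨆ i, centralizer ((ZL (S : Subgroup G) n ⊓ C i : Subgroup G) : Set G) := by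
  refine sup_le ?_ (iSup_le ?_)
  · obtain ⟨i⟩ := ‹Nonempty ι›
    refine le_trans (centralizer_le ?_) (le_iSup (fun i => centralizer ((ZL (S : Subgroup G) n ⊓ C i : Subgroup G) : Set G)) i)
    exact_mod_cast (inf_le_left : ZL (S : Subgroup G) n ⊓ C i ≤ _)
  · rintro ⟨⟨L', V'⟩, ⟨Z', q', hF⟩, hb⟩
    have eqB : BL (S : Subgroup G) n =
      (S : Subgroup G) ⊓ centralizer (zc (lev (S : Subgroup G) (n + 1)) : Set G) := rfl
    have hX := Lev.LowBlk.V_le S eqB h.fr hF hb.irr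
    have hp : ∀ g ∈ normalizer (BL (S : Subgroup G) n : Set G), ∀ j, ∃ k, cj g (Z j) = Z k :=
      fun g hg j => (h.gr.norm g hg).2 j
    obtain ⟨-, i, -, -, -, h1, -⟩ := Lev.UniPlus.uniPlusX h.fr (lb S n).Bp (wc S n) hp hF hX
    refine le_trans (fun l hl => ?_)
      (le_iSup (fun i => centralizer ((ZL (S : Subgroup G) n ⊓ C i : Subgroup G) : Set G)) i)
    exact mem_centralizer_iff.2 fun z hz => ((h1 z hz.1).1 hz.2 l hl).symm

/-- **(Om)**: if `⟨C_G(Z_J), all FF-blocks over B⟩` normalises a nontrivial 2-group, then `M = N_G(O₂(K0))` contains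
`N_G(B)`, all minimal parabolics over `T ≥ B` which move `Ω₁Z(T)`, and every subgroup of characteristic 2 over `B`. -/
theorem LnQ.nonLocK [Nonempty ι] (hm : Main2.{u}) (h : LnQ S V Q n L W Z C A q) (hq : 4 ≤ q) {R : Subgroup G}
    (hR : IsPGroup 2 R) (hR1 : R ≠ ⊥)
    (hY : K0 (ZL (S : Subgroup G) n) (FBlk (BL (S : Subgroup G) n)) ≤ normalizer (R : Set G)) :
    ∃ O : Subgroup G, IsPGroup 2 O ∧ O ≠ ⊥ ∧ O ≤ BL (S : Subgroup G) n ∧
      centralizer (ZL (S : Subgroup G) n : Set G) ≤ normalizer (O : Set G) ∧ (∀ i, L i ≤ normalizer (O : Set G)) ∧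
      normalizer (BL (S : Subgroup G) n : Set G) ≤ normalizer (O : Set G) ∧
      (∀ T Y : Subgroup G, Syl T Y → BL (S : Subgroup G) n ≤ T → IsMinPar T Y →
        Y ⊓ centralizer (o2 Y : Set G) ≤ o2 Y → ¬ Y ≤ centralizer (zc T : Set G) → Y ≤ normalizer (O : Set G)) ∧
      ∀ H : Subgroup G, BL (S : Subgroup G) n ≤ H → H ⊓ centralizer (o2 H : Set G) ≤ o2 H →
        H ≤ normalizer (O : Set G) := by
  obtain ⟨ho, hoB, hle⟩ := h.fam'.dich (lb S n) hR hR1 hY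
  set O : Subgroup G := o2 (K0 (ZL (S : Subgroup G) n) (FBlk (BL (S : Subgroup G) n))) with hO
  have hK : K0 (ZL (S : Subgroup G) n) (FBlk (BL (S : Subgroup G) n)) ≤ normalizer (O : Set G) :=
    le_sup_left.trans hle
  have hN : normalizer (BL (S : Subgroup G) n : Set G) ≤ normalizer (O : Set G) := le_sup_right.trans hle
  have hLM : ∀ i, L i ≤ normalizer (O : Set G) := fun i => (LevD.blk_le_K0 (h.fblk i)).trans hK
  have hDM := LevD.cent_le_K0.trans hK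
  have hZM : normalizer (ZL (S : Subgroup G) n : Set G) ≤ normalizer (O : Set G) :=
    (lb S n).norm_zj_le.trans (sup_le hDM hN)
  have key : ∀ T Y : Subgroup G, Syl T Y → BL (S : Subgroup G) n ≤ T → IsMinPar T Y →
      Y ⊓ centralizer (o2 Y : Set G) ≤ o2 Y → ¬ Y ≤ centralizer (zc T : Set G) → Y ≤ normalizer (O : Set G) := by
    intro T Y hT hB hY hc hZ
    by_cases hn : lev (S : Subgroup G) (n + 1) ≤ o2 Y
    · exact ((le_normalizer_o2 Y).trans ((lb S n).nrm _ (isPGroup_o2 Y) hn)).trans hZM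
    · exact (LevB.blkGen S hT hB hY hc (lowQ h.fr (by omega) hT hB hY hc hZ) hn hZ).trans
        (sup_le hK (((lb S n).two_le hT.2.1 hB).trans hN))
  refine ⟨O, isPGroup_o2 _, ho, hoB, hDM, hLM, hN, key, fun H hB hc => ?_⟩
  exact hm G ι S _ _ V _ L W Z C A (fun _ => q) ‹_› h.gr (fun _ => hq) (fun _ _ h => h) _ H
    (fun T Y hT hB hY hc _ hZ => key T Y hT hB hY hc hZ) hLM hDM hN hB hc

/-- **(Om)**, for the groups `C_G(Z_J ∩ C i)`. -/
theorem LnQ.nonLoc [Nonempty ι] (hm : Main2.{u}) (h : LnQ S V Q n L W Z C A q) (hq : 4 ≤ q) {R : Subgroup G}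
    (hR : IsPGroup 2 R) (hR1 : R ≠ ⊥)
    (hY : ∀ i, centralizer ((ZL (S : Subgroup G) n ⊓ C i : Subgroup G) : Set G) ≤ normalizer (R : Set G)) :
    ∃ O : Subgroup G, IsPGroup 2 O ∧ O ≠ ⊥ ∧ O ≤ BL (S : Subgroup G) n ∧
      centralizer (ZL (S : Subgroup G) n : Set G) ≤ normalizer (O : Set G) ∧ (∀ i, L i ≤ normalizer (O : Set G)) ∧
      normalizer (BL (S : Subgroup G) n : Set G) ≤ normalizer (O : Set G) ∧
      (∀ T Y : Subgroup G, Syl T Y → BL (S : Subgroup G) n ≤ T → IsMinPar T Y →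
        Y ⊓ centralizer (o2 Y : Set G) ≤ o2 Y → ¬ Y ≤ centralizer (zc T : Set G) → Y ≤ normalizer (O : Set G)) ∧
      ∀ H : Subgroup G, BL (S : Subgroup G) n ≤ H → H ⊓ centralizer (o2 H : Set G) ≤ o2 H →
        H ≤ normalizer (O : Set G) :=
  h.nonLocK hm hq hR hR1 (h.K0_le.trans (iSup_le hY))

end line

/-- 461's theorem -/
theorem main2 : Main2.{u} := fun _ _ _ _ _ _ _ _ _ _ _ _ _ _ _ _ hne h hq h4 X H hBM hL hD hN hB hc =>
  h.le_of_char2 hne hq h4 hBM hL hD hN hB hc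

end Cfsg.Agent.Omega.OM.SwapV.Q

end

section


/-!
# (Om) for `q ≥ 4` at an arbitrary weakly closed level: the ground frame

* `AbQ S K B V ZJ X Q L W Z C A q` : `FrL` over `(B, Q, V, X, Z_J)`, `LB`, `B` weakly closed, `N_G(B) ≤ N_G(X)`, the fixed
  point property and the family of offenders `fam` (each member acts trivially on `V` or is a best offender on `X`);
* `AbQ.gr` : it is a ground frame `Gr`; `AbQ.le_of_char2` : (Om).
-/

set_option autoImplicit false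
set_option linter.unusedSectionVars false

namespace Cfsg.Agent.Omega.NOThreeL.QWR.Sw

open Subgroup Cfsg Cfsg.Agent.ZN.ChoiceBase Cfsg.Agent.ZN.ChoiceSit
open Cfsg.Agent.ZN (jj zj bau zc zl o2)
open Cfsg.Agent.MinSimple.MinParabolic (IsMinPar)
open Cfsg.Agent.Omega.NO3S.Level (lev Lev nxt)
open Cfsg.Agent.Omega.OM.LevD (LB)
open Cfsg.Agent.Omega.OM.Lev.Uni (FrL Best)
open Cfsg.Agent.Omega.OM.Swap.Fam (Fm)
open Cfsg.Agent.Omega.OM.SwapV.Q

universe u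

variable {G : Type u} [Group G] [Finite G]

/-- The frame over an arbitrary level, any `q`. -/
structure AbQ {ι : Type} (S : Sylow 2 G) (K B V ZJ X Q : Subgroup G) (L W Z C A : ι → Subgroup G) (q : ℕ) : Prop where
  lb : LB S K B ZJ
  wc : OM.WeakCl.WC B
  nX : normalizer (B : Set G) ≤ normalizer (X : Set G)
  fr : FrL B Q V X ZJ L W Z C A q
  char2 : IsCharacteristicTwoType G
  low : V ≤ o2 (centralizer (zc (S : Subgroup G) : Set G))
  noff : ∀ T : Subgroup G, IsPGroup 2 T → B ≤ T → ∀ f : G, cj f V ≤ T → V ≤ cj f T →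
    ∀ x ∈ V, ∀ y ∈ V, x * (f * y * f⁻¹) = f * y * f⁻¹ * x
  perm : ∀ s ∈ (S : Subgroup G), ∀ i j, cj s (Z i) = Z j → cj s (W i) = W j ∧ cj s (C i) = C j
  co : ∀ i, ∃ (F : Type) (_ : Field F) (_ : Finite F) (_ : CharP F 2), Nat.card F = q ∧
    ∃ e : G → F × F, Cor F (S : Subgroup G) B L W Z i e
  fixPt : ∀ T Y : Subgroup G, OM.SwapV.Quiet K B T Y → ZJ ⊓ zc (o2 Y) ≤ centralizer (MinSimple.VModule.oddGen Y : Set G)
  fam : ∀ M T F : Subgroup G, PairV B V ZJ M T F → centralizer (ZJ : Set G) ≤ M → T ≤ M →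
    normalizer (ZJ : Set G) ≤ M → ∃ 𝓐 : Set (Subgroup G),
      (∀ Λ : Subgroup G, IsElementaryAbelian 2 Λ → Λ ≤ F → F ≤ normalizer (Λ : Set G) →
        Λ ≤ NoFF.Basic.V V F → Fm F Λ 𝓐) ∧
      (∃ E ∈ 𝓐, E ≤ T ∧ ¬ E ≤ o2 F) ∧
      ∀ E ∈ 𝓐, E ≤ T → E ≤ B ∧ ((∀ a ∈ E, ∀ v ∈ V, a * v = v * a) ∨ Best X E)

section line

variable {ι : Type} [Finite ι] {S : Sylow 2 G} {K B V ZJ X Q : Subgroup G} {L W Z C A : ι → Subgroup G} {q : ℕ}

/-- `Z_J ≤ ⟨Z i⟩` -/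
theorem AbQ.ZJ_le (h : AbQ S K B V ZJ X Q L W Z C A q) : ZJ ≤ ⨆ i, Z i := OM.SwapV.Q.ZJ_le_sup h.fr

/-- **The frame is a ground frame.** -/
theorem AbQ.gr (h : AbQ S K B V ZJ X Q L W Z C A q) : Gr S K B V ZJ L W Z C A (fun _ => q) where
  lb := h.lb
  wc := h.wc
  char2 := h.char2
  VB := h.fr.VQ.trans h.fr.QB
  el := h.fr.el
  ZJV := h.fr.ZJV
  WV := h.fr.WV
  ZW := fun i => (h.fr.blk i).ZV
  Zle := h.fr.Z_le
  cardZ := h.fr.cardZ
  cardW := fun i => by rw [(h.fr.blk i).card, h.fr.cardZ i]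
  dir := h.fr.dir
  C0 := h.fr.C0
  WjC := h.fr.WjC
  sup := h.ZJ_le
  BL := fun i => (h.fr.blk i).BL
  LC := h.fr.LC
  AB := h.fr.AB
  AC := h.fr.AC
  root := fun i v hv hvZ z hz => OM.SWQ.ModQ.root h.fr hv hvZ hz
  conjZ := fun r x hx => OM.SWQ.ModQ.conj_ZJ h.fr r hx
  norm := fun g hg => by
    have h1 := h.fr.norm_of hg (h.nX hg)
    exact ⟨h1.1, fun i => by obtain ⟨j, hj, -⟩ := h1.2 i; exact ⟨j, hj⟩⟩
  perm := h.perm
  low := h.low
  noff := h.noff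
  fixPt := h.fixPt
  fam := fun M T F hp hD hTM hZM => by
    obtain ⟨𝓐, h1, h2, h3⟩ := h.fam M T F hp hD hTM hZM
    refine ⟨𝓐, h1, h2, fun E hE hET => ⟨(h3 E hE hET).1, fun i => ?_⟩⟩
    obtain ⟨hEB, h4 | h4⟩ := h3 E hE hET
    · exact Or.inl fun a ha x hx => h4 a ha x (h.fr.WV i hx)
    · exact OM.SWQ.HThree.h2 h.fr hEB h4 i
  co := h.co

/-- **(Om), `q ≥ 4`, over an arbitrary level.** -/
theorem AbQ.le_of_char2 (h : AbQ S K B V ZJ X Q L W Z C A q) [Nonempty ι] (hq : 4 ≤ q) {M H : Subgroup G}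
    (hBM : BMV K B M) (hL : ∀ i, L i ≤ M) (hD : centralizer (ZJ : Set G) ≤ M) (hN : normalizer (B : Set G) ≤ M)
    (hB : B ≤ H) (hc : H ⊓ centralizer (o2 H : Set G) ≤ o2 H) : H ≤ M :=
  h.gr.le_of_char2 ‹_› (fun _ => hq) (fun _ _ h => h) hBM hL hD hN hB hc

end line

end Cfsg.Agent.Omega.NOThreeL.QWR.Sw

end

section


/-!
# (Om) for `q ≥ 4` over an abstract `V`, inside `C_G(Z₁)`, `1 ≠ Z₁ ≤ Ω₁Z(S)`

The pair `(T, F)` is chosen inside `C_G(C₀)`, `Z₁ ≤ C₀ ≤ Z_J` maximal with `C_G(C₀) ≰ X` (helper334 #23847 (0)):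
`C_{Z_J}(T) = C₀`, `C_G(Y) ≤ X` for `C₀ < Y ≤ Z_J`. So `BM` is needed only inside `C_G(Z₁)`.

* `Gr.fus` : fusion in `Z_J`; `Gr.exists_conj`; `Gr.tv`;
* `exists_pairH`, `SelC`, `exists_selC`;
* `SelC.ti`, `SelC.phi_univ` : CASE I;
* **`Gr.cz_leC'`**, **`Gr.cz_leC`** : `C_G(Ω₁Z(S)) ≤ X`.
-/

set_option autoImplicit false
set_option linter.unusedSectionVars false
set_option linter.unusedTactic false
set_option linter.unreachableTactic false

namespace Cfsg.Agent.Omega.OM.SwapV.Q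

open Subgroup Cfsg Cfsg.Agent.ZN.ChoiceBase Cfsg.Agent.ZN.ChoiceSit
open Cfsg.Agent.ZN (jj zj bau zc zl o2)
open Cfsg.Agent.MinSimple.MinParabolic (IsMinPar)
open Cfsg.Agent.MinSimple.VModule (oddGen oddGen_le)
open Cfsg.Agent.Omega.OM.LevD (LB K0)
open Cfsg.Agent.Omega.OM.WeakCl (WC)
open Cfsg.Agent.Omega.OM.FourF (Act)
open Cfsg.Agent.Omega.OM.Swap.Fam (Fm)
open Cfsg.Agent.Omega.OM.SWQ (exists_fix cost_blocks)
open Cfsg.Agent.Omega.OM.SwapV (BMH)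
open scoped commutatorElement

universe u

variable {G : Type u} [Group G] [Finite G]

open scoped Pointwise in
omit [Finite G] in
theorem mem_sup_cmC {R U : Subgroup G} (hc : ∀ r ∈ R, ∀ v ∈ U, r * v = v * r) {y : G} (hy : y ∈ R ⊔ U) :
    ∃ r ∈ R, ∃ v ∈ U, r * v = y := by
  have h : R ≤ normalizer (U : Set G) := fun a ha => (Subgroup.centralizer_le_normalizer _)
    (mem_centralizer_iff.2 fun b hb => (hc a ha b hb).symm)
  have h1 : y ∈ (R : Set G) * (U : Set G) := by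
    rw [← coe_mul_of_left_le_normalizer_right R U h]
    exact hy
  obtain ⟨r, hr, b, hb, e⟩ := Set.mem_mul.1 h1
  exact ⟨r, hr, b, hb, e⟩

variable {ι : Type} [Finite ι] {S : Sylow 2 G} {K B V ZJ : Subgroup G} {L W Z C A : ι → Subgroup G} {q : ι → ℕ}

namespace Gr

variable (h : Gr S K B V ZJ L W Z C A q)
include h

/-- `Ω₁Z(S) ≤ Z_J` -/
theorem zc_le (hzB : zc B ≤ ZJ) : zc (S : Subgroup G) ≤ ZJ := by
  intro y hy
  obtain ⟨h7, h8, h9⟩ := mem_zc.1 hy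
  have hyB : y ∈ B := by
    rw [h.lb.eqB]
    exact ⟨h7, mem_centralizer_iff.2 fun x hx => h9 x (h.lb.BS (h.lb.ZB hx))⟩
  exact hzB (mem_zc.2 ⟨hyB, h8, fun b hb => h9 b (h.lb.BS hb)⟩)

/-- **fusion in `Z_J`**: an element of `Z_J` which is fused into `Z i` lies in some `Z j`. -/
theorem fus {i : ι} {x g : G} (hx : x ∈ ZJ) (hg : g⁻¹ * x * g ∈ Z i) : ∃ j, x ∈ Z j := by
  set Q : Subgroup G := centralizer ({x} : Set G) with hQ
  have hB : B ≤ Q := fun b hb => mem_centralizer_singleton_iff.2 (h.cB hb hx)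
  have hB' : cj g B ≤ Q := by
    intro c hc
    rw [mem_cj] at hc
    rw [hQ, mem_centralizer_singleton_iff]
    have h3 := h.cB hc (h.Zle i hg)
    have h4 := congrArg (fun t => g * t * g⁻¹) h3
    have e1 : g * (g⁻¹ * c * g * (g⁻¹ * x * g)) * g⁻¹ = c * x := by group
    have e2 : g * (g⁻¹ * x * g * (g⁻¹ * c * g)) * g⁻¹ = x * c := by group
    rw [← e1, ← e2]
    exact h4
  obtain ⟨R, hR, hBR⟩ := exists_syl h.lb.Bp hB
  obtain ⟨R', hR', hBR'⟩ := exists_syl (isPGroup_cj g h.lb.Bp) hB'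
  obtain ⟨c, hc, e⟩ := syl_conj hR' hR
  have h6 : cj (c * g) B = B := by
    have h7 : cj (c * g) B ≤ R := by
      rw [← cj_cj, ← e]
      exact cj_mono _ hBR'
    exact h.wc R hR.2.1 hBR (c * g) h7
  obtain ⟨j, hj⟩ := (h.norm _ (mem_normalizer_iff_cj.2 h6)).2 i
  refine ⟨j, ?_⟩
  rw [← hj]
  refine ⟨_, hg, ?_⟩
  change c * g * (g⁻¹ * x * g) * (c * g)⁻¹ = x
  have e1 : c * g * (g⁻¹ * x * g) * (c * g)⁻¹ = c * x * c⁻¹ := by group
  rw [e1, mem_centralizer_singleton_iff.1 hc]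
  group

/-- an element of `W i` is conjugate into `Z i` by an element which normalises `W i` and centralises the `W j`. -/
theorem exists_one (i : ι) {w : G} (hw : w ∈ W i) : ∃ g, cj g (W i) = W i ∧ g * w * g⁻¹ ∈ Z i ∧
    ∀ j, j ≠ i → ∀ v ∈ W j, g * v = v * g := by
  obtain ⟨E, _, _, _, -, e, c⟩ := h.co i
  by_cases hb : (e w).2 = 0
  · refine ⟨1, cj_one _, ?_, fun j _ v _ => by rw [one_mul, mul_one]⟩
    rw [one_mul, inv_one, mul_one]
    exact (c.memZ w).2 ⟨hw, hb⟩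
  obtain ⟨g, -, hgN, hg, hgc⟩ := c.sl 0 (-1) 1 (-((e w).1 * ((e w).2)⁻¹)) (by ring)
  refine ⟨g, mem_normalizer_iff_cj.1 hgN, (c.memZ _).2 ⟨(mem_normalizer_iff.1 hgN w).1 hw, ?_⟩, hgc⟩
  rw [hg w hw]
  change 1 * (e w).1 + -((e w).1 * ((e w).2)⁻¹) * (e w).2 = 0
  rw [neg_mul, mul_assoc, inv_mul_cancel₀ hb]
  ring

/-- every element of `⨆ W i` is conjugate into `⨆ Z i` by an element which normalises all `W j` -/
theorem exists_conj {r : Set ι} {y : G} (hy : y ∈ ⨆ i ∈ r, W i) :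
    ∃ g, (∀ j, cj g (W j) = W j) ∧ g * y * g⁻¹ ∈ ZJ := by
  classical
  have := Fintype.ofFinite ι
  have key : ∀ s : Finset ι, ∀ y ∈ (⨆ i ∈ s, W i : Subgroup G), ∃ g, (∀ j, cj g (W j) = W j) ∧
      (∀ j, j ∉ s → ∀ v ∈ W j, g * v = v * g) ∧ g * y * g⁻¹ ∈ (⨆ i ∈ s, Z i : Subgroup G) := by
    intro s
    induction s using Finset.induction_on with
    | empty =>
      intro y hy
      refine ⟨1, fun j => cj_one _, fun j _ v _ => by rw [one_mul, mul_one], ?_⟩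
      rw [one_mul, inv_one, mul_one]
      simpa using hy
    | insert i s hi ih =>
      intro y hy
      rw [Finset.iSup_insert] at hy
      rw [Finset.iSup_insert]
      have hsV : (⨆ i ∈ s, W i : Subgroup G) ≤ V := iSup₂_le fun i _ => h.WV i
      have hZW : (⨆ i ∈ s, Z i : Subgroup G) ≤ ⨆ i ∈ s, W i := iSup₂_mono fun i _ => h.ZW i
      obtain ⟨w, hw, v, hv, e⟩ := mem_sup_cmC (fun a ha b hb => h.Vc (h.WV i ha) (hsV hb)) hy
      obtain ⟨g, hg1, hg2, hg3⟩ := ih v hv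
      obtain ⟨l, hl1, hl2, hl3⟩ := h.exists_one i hw
      have hlv : l * v * l⁻¹ = v := by
        have h1 : (⨆ i ∈ s, W i : Subgroup G) ≤ centralizer ({l} : Set G) := by
          refine iSup₂_le fun j hj x hx => mem_centralizer_singleton_iff.2 ?_
          exact (hl3 j (fun e => hi (e ▸ hj)) x hx).symm
        have h2 := mem_centralizer_singleton_iff.1 (h1 hv)
        rw [← h2, mul_inv_cancel_right]
      have hlW : ∀ j, cj l (W j) = W j := by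
        intro j
        by_cases hj : j = i
        · rw [hj]; exact hl1
        · refine cj_eq_of_mem_normalizer (centralizer_le_normalizer _ (mem_centralizer_iff.2 fun x hx => ?_))
          exact (hl3 j hj x hx).symm
      have hgZ : g * (l * w * l⁻¹) * g⁻¹ = l * w * l⁻¹ := by
        rw [hg2 i hi _ (h.ZW i hl2), mul_inv_cancel_right]
      refine ⟨g * l, fun j => by rw [← cj_cj, hlW, hg1], fun j hj x hx => ?_, ?_⟩
      · rw [Finset.mem_insert, not_or] at hj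
        rw [mul_assoc, hl3 j hj.1 x hx, ← mul_assoc, hg2 j hj.2 x hx, mul_assoc]
      · have e1 : g * l * y * (g * l)⁻¹ = (g * (l * w * l⁻¹) * g⁻¹) * (g * (l * v * l⁻¹) * g⁻¹) := by
          rw [← e]; group
        rw [e1, hgZ, hlv]
        exact mul_mem (mem_sup_left hl2) (mem_sup_right hg3)
  obtain ⟨g, hg1, -, hg3⟩ := key Finset.univ y (by
    have h1 : (⨆ i ∈ r, W i : Subgroup G) ≤ ⨆ i ∈ (Finset.univ : Finset ι), W i :=
      iSup₂_le fun i _ => le_iSup₂_of_le i (Finset.mem_univ i) le_rfl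
    exact h1 hy)
  exact ⟨g, hg1, (iSup₂_le fun i _ => h.Zle i : (⨆ i ∈ (Finset.univ : Finset ι), Z i : Subgroup G) ≤ ZJ) hg3⟩

/-- (TV) -/
theorem tv (hq : ∀ i, 1 < q i) {O : Subgroup G} {j : ι} (hO : ∀ a ∈ A j, ∀ o ∈ O, a * o * a⁻¹ ∈ O) {o : G}
    (ho : o ∈ O) (hmv : cj o⁻¹ (W j) ≤ C j) {v z : G} (hv : v ∈ W j) (hvZ : v ∉ Z j) (hz : z ∈ Z j) :
    ∃ u ∈ O, u * v * u⁻¹ = z * v := by
  obtain ⟨a, ha, e⟩ := h.root j v hv hvZ z hz
  have he : o * a⁻¹ * o⁻¹ * a ∈ O := by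
    have h1 := hO a⁻¹ (inv_mem ha) o⁻¹ (inv_mem ho)
    rw [inv_inv] at h1
    have h2 := mul_mem ho h1
    have e1 : o * (a⁻¹ * o⁻¹ * a) = o * a⁻¹ * o⁻¹ * a := by group
    rwa [e1] at h2
  have hav : a * v * a⁻¹ ∈ W j := h.BW hq j a (h.AB j ha) v hv
  have h1 : a * (o⁻¹ * (a * v * a⁻¹) * o) = o⁻¹ * (a * v * a⁻¹) * o * a := by
    refine h.AC j a ha _ (hmv ?_)
    refine ⟨a * v * a⁻¹, hav, ?_⟩
    show o⁻¹ * (a * v * a⁻¹) * o⁻¹⁻¹ = o⁻¹ * (a * v * a⁻¹) * o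
    rw [inv_inv]
  refine ⟨o * a⁻¹ * o⁻¹ * a, he, ?_⟩
  have e1 : o * a⁻¹ * o⁻¹ * a * v * (o * a⁻¹ * o⁻¹ * a)⁻¹ =
      o * (a⁻¹ * (o⁻¹ * (a * v * a⁻¹) * o * a)) * o⁻¹ := by group
  rw [e1, ← h1, ← e]; group

end Gr

/-- **Existence of pairs**, `BM` only inside `H`; `F` has characteristic 2. -/
theorem exists_pairH (h : Gr S K B V ZJ L W Z C A q) {X H : Subgroup G} (hBM : BMH K B X H)
    (hD : centralizer (ZJ : Set G) ≤ X) (hN : normalizer (B : Set G) ≤ X)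
    (hB : B ≤ H) (hc : H ⊓ centralizer (o2 H : Set G) ≤ o2 H) (hM : ¬ H ≤ X) :
    ∃ T F : Subgroup G, PairV B V ZJ X T F ∧ F ≤ H := by
  have : Fact (Nat.Prime 2) := ⟨Nat.prime_two⟩
  obtain ⟨T₀, hT₀, hBT₀⟩ := exists_syl h.lb.Bp hB
  have hsylY : ∀ Y : Subgroup G, IsMinPar T₀ Y → Y ≤ H → Syl T₀ Y := fun Y hY hYH =>
    ⟨hY.le, hT₀.2.1, fun Q hQ h2 hTQ => hT₀.2.2 Q (hQ.trans hYH) h2 hTQ⟩
  have hcY' : ∀ Y : Subgroup G, IsMinPar T₀ Y → Y ≤ H → Y ⊓ centralizer (o2 Y : Set G) ≤ o2 Y := by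
    intro Y hY hYH
    have h4 : o2 H ≤ o2 Y :=
      le_o2 (isPGroup_o2 H) ((o2_le_syl hT₀).trans hY.le) (hYH.trans (le_normalizer_o2 H))
    rintro x ⟨hx, hxc⟩
    exact h4 (hc ⟨hYH hx, centralizer_le (by exact_mod_cast h4) hxc⟩)
  have hg := h.genM hD hN hT₀ hBT₀ hc
    fun Y hY hYH => hBM T₀ Y (hsylY Y hY hYH) hBT₀ hY hYH (hcY' Y hY hYH)
  -- the minimal parabolic `Y`
  obtain ⟨Y, ⟨hYm, hYH, hYK, hYc, -⟩, hYM⟩ : ∃ Y : Subgroup G, (IsMinPar T₀ Y ∧ Y ≤ H ∧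
      ¬ K ≤ o2 Y ∧ Y ≤ centralizer (zc T₀ : Set G) ∧ ¬ o2 Y ≤ B) ∧ ¬ Y ≤ X := by
    by_contra hcon
    push Not at hcon
    exact hM (hg.trans (sup_le inf_le_right (iSup_le fun Y => hcon Y.1 Y.2)))
  have hTM : T₀ ≤ X := (h.lb.two_le hT₀.2.1 hBT₀).trans hN
  have hTY : Syl T₀ Y := hsylY Y hYm hYH
  have hcY := hcY' Y hYm hYH
  have hVY : V ≤ o2 Y := V_le_o2 h hT₀.2.1 hBT₀ hYm.le hYc
  -- `Y₁ = O²(Y) O₂(Y) B`
  set Y₁ : Subgroup G := oddGen Y ⊔ (o2 Y ⊔ B) with hY₁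
  have hY₁Y : Y₁ ≤ Y := sup_le (oddGen_le Y) (sup_le (o2_le Y) (hBT₀.trans hYm.le))
  have hOB : IsPGroup 2 (o2 Y ⊔ B : Subgroup G) :=
    hT₀.2.1.to_le (sup_le (o2_le_syl hTY) hBT₀)
  obtain ⟨T, hT, hOT⟩ := exists_syl hOB (le_sup_right : o2 Y ⊔ B ≤ Y₁)
  have hY₁M : ¬ Y₁ ≤ X := by
    intro hle
    apply hYM
    rw [← Dich.oddGen_sup_syl hTY]
    exact sup_le (le_sup_left.trans hle) hTM
  obtain ⟨F, hF⟩ := (Set.toFinite {K : Subgroup G | T ≤ K ∧ K ≤ Y₁ ∧ ¬ K ≤ X}).exists_minimal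
    ⟨Y₁, hT.1, le_rfl, hY₁M⟩
  obtain ⟨hTF, hFY₁, hFM⟩ := hF.prop
  have hFY : F ≤ Y := hFY₁.trans hY₁Y
  have hsyl : Syl T F := ⟨hTF, hT.2.1, fun Q hQ h2 hle => hT.2.2 Q (hQ.trans hFY₁) h2 hle⟩
  have hBT : B ≤ T := le_sup_right.trans hOT
  have hOF : o2 Y ≤ o2 F :=
    le_o2 (isPGroup_o2 Y) ((le_sup_left.trans hOT).trans hTF) (hFY.trans (le_normalizer_o2 Y))
  have hmin : ∀ K : Subgroup G, T ≤ K → K < F → K ≤ X := by
    intro K' hTK hKF
    by_contra hKM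
    exact hKF.not_ge (hF.le_of_le ⟨hTK, hKF.le.trans hFY₁, hKM⟩ hKF.le)
  have hVO : V ≤ o2 F := hVY.trans hOF
  have hcF : F ⊓ centralizer (o2 F : Set G) ≤ o2 F := by
    rintro x ⟨hx, hxc⟩
    exact hOF (hcY ⟨hFY hx, centralizer_le (by exact_mod_cast hOF) hxc⟩)
  have hfx : ZJ ⊓ centralizer (o2 F : Set G) ≤ centralizer (F : Set G) := by
    rintro z ⟨hz, hzc⟩
    have hzB : z ∈ B := h.lb.ZB hz
    have hzO : ∀ y ∈ o2 Y, y * z = z * y := fun y hy => mem_centralizer_iff.1 hzc y (hOF hy)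
    have hz1 : z ∈ zc (o2 Y) := by
      refine mem_zc.2 ⟨hcY ⟨hYm.le (hBT₀ hzB), mem_centralizer_iff.2 hzO⟩, h.lb.sq z hz, hzO⟩
    have hz2 : z ∈ centralizer (oddGen Y : Set G) :=
      h.fixPt T₀ Y ⟨hTY, hBT₀, hYm, hcY, hYK, hYc⟩ ⟨hz, hz1⟩
    have hle : Y₁ ≤ centralizer ({z} : Set G) := by
      refine sup_le (fun y hy => ?_) (sup_le (fun y hy => ?_) fun y hy => ?_) <;>
        rw [mem_centralizer_singleton_iff]
      · exact mem_centralizer_iff.1 hz2 y hy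
      · exact hzO y hy
      · exact (mem_centralizer_iff.1 (h.lb.Bc hy) z hz).symm
    rw [mem_centralizer_iff]
    intro y hy
    exact mem_centralizer_singleton_iff.1 (hle (hFY₁ hy))
  refine ⟨T, F, ?_, hFY.trans hYH⟩
  constructor <;> first | exact hsyl | exact hBT | exact hFM | exact hmin | exact hVO | exact hfx | exact hcF

/-- The chosen pair. -/
structure SelC (S : Sylow 2 G) (B V ZJ X T F : Subgroup G) : Prop where
  pair : PairV B V ZJ X T F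
  TS : T ≤ (S : Subgroup G)
  cen : ∀ Y : Subgroup G, Y ≤ ZJ → ZJ ⊓ centralizer (T : Set G) < Y → centralizer (Y : Set G) ≤ X

/-- **The choice of the pair.** -/
theorem exists_selC (h : Gr S K B V ZJ L W Z C A q) {X Z₁ : Subgroup G} (hZ : Z₁ ≤ zc (S : Subgroup G))
    (hZ1 : Z₁ ≠ ⊥) (hZJ : Z₁ ≤ ZJ) (hBM : BMH K B X (centralizer (Z₁ : Set G)))
    (hD : centralizer (ZJ : Set G) ≤ X) (hN : normalizer (B : Set G) ≤ X)
    (hM : ¬ centralizer (Z₁ : Set G) ≤ X) :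
    ∃ T F : Subgroup G, SelC S B V ZJ X T F ∧ F ≤ centralizer (Z₁ : Set G) := by
  classical
  have hJ2 : IsPGroup 2 ZJ := h.lb.Bp.to_le h.lb.ZB
  have hcS : ∀ z ∈ Z₁, ∀ s ∈ (S : Subgroup G), s * z = z * s := fun z hz => (mem_zc.1 (hZ hz)).2.2
  obtain ⟨C₀, hC⟩ := (Set.toFinite {Y : Subgroup G | Y ≤ ZJ ∧ Z₁ ≤ Y ∧ ¬ centralizer (Y : Set G) ≤ X}).exists_maximal
    ⟨Z₁, hZJ, le_rfl, hM⟩
  obtain ⟨h1, h2, h3⟩ := hC.prop
  have hmax : ∀ Y : Subgroup G, Y ≤ ZJ → C₀ < Y → centralizer (Y : Set G) ≤ X := by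
    intro Y hY hlt
    by_contra hcon
    exact hlt.not_ge (hC.le_of_ge ⟨hY, h2.trans hlt.le, hcon⟩ hlt.le)
  have hC1 : C₀ ≠ ⊥ := fun e => hZ1 (le_bot_iff.1 (e ▸ h2))
  have hle : centralizer (C₀ : Set G) ≤ centralizer (Z₁ : Set G) := centralizer_le (by exact_mod_cast h2)
  have hBH : B ≤ centralizer (C₀ : Set G) := h.lb.Bc.trans (centralizer_le (by exact_mod_cast h1))
  obtain ⟨T, F, hp, hFC⟩ := exists_pairH h (fun T' Y hT hB' hY hYH => hBM T' Y hT hB' hY (hYH.trans hle)) hD hN hBH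
    (Swap.char2_cent h.char2 (hJ2.to_le h1) hC1) h3
  -- `C_{Z_J}(T) = C₀`
  have hTC : ZJ ⊓ centralizer (T : Set G) = C₀ := by
    have h4 : C₀ ≤ ZJ ⊓ centralizer (T : Set G) := le_inf h1 (le_centralizer_iff.1 (hp.syl.1.trans hFC))
    by_contra hne
    apply hp.nM
    refine le_trans ?_ (hmax _ inf_le_left (lt_of_le_of_ne h4 (Ne.symm hne)))
    rw [le_centralizer_iff]
    exact fun x hx => hp.fix ⟨hx.1, centralizer_le (by exact_mod_cast o2_le_syl hp.syl) hx.2⟩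
  -- conjugate into `S`
  have hsyl : Syl (S : Subgroup G) (normalizer (B : Set G)) :=
    ZN.CaseTwo.syl_of_sylow S (h.lb.two_le S.isPGroup' h.lb.BS)
  obtain ⟨T₁, hT₁, hTT₁⟩ := exists_syl hp.syl.2.1 (h.lb.two_le hp.syl.2.1 hp.BT)
  obtain ⟨m, hm, hmS⟩ := syl_conj hT₁ hsyl
  have hTS : cj m T ≤ (S : Subgroup G) := by
    rw [← hmS]
    exact cj_mono m hTT₁
  have hJ := cj_eq_of_mem_normalizer (h.lb.norm_B_le hm)
  have hJ' := cj_eq_of_mem_normalizer (h.lb.norm_B_le (inv_mem hm))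
  have hX : cj m X = X := cj_eq_of_mem_normalizer (le_normalizer (hN hm))
  have hTC' : ZJ ⊓ centralizer ((cj m T : Subgroup G) : Set G) = cj m C₀ := by
    rw [← hTC, cj_inf, cj_centralizer, hJ]
  refine ⟨cj m T, cj m F, ⟨pair_cj h hN hp hm, hTS, fun Y hY hlt => ?_⟩, ?_⟩
  · rw [hTC'] at hlt
    have h4 := hmax (cj m⁻¹ Y) (by
      have := cj_mono m⁻¹ hY
      rwa [hJ'] at this) (lt_of_le_of_ne (by
        have := cj_mono m⁻¹ hlt.le
        rwa [cj_inv_cj] at this) fun e => hlt.ne (by rw [e, cj_cj_inv]))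
    have h5 := cj_mono m h4
    rwa [hX, cj_centralizer, cj_cj_inv] at h5
  · have h4 := cj_mono m hFC
    rw [cj_centralizer, ← hTC'] at h4
    refine h4.trans (centralizer_le ?_)
    exact_mod_cast le_inf hZJ fun z hz => mem_centralizer_iff.2 fun t ht => hcS z hz t (hTS ht)

namespace SelC

variable {X T F : Subgroup G}

theorem OT (s : SelC S B V ZJ X T F) : o2 F ≤ T := o2_le_syl s.pair.syl

/-- `F` centralises `C₀`. -/
theorem FC (s : SelC S B V ZJ X T F) : F ≤ centralizer ((ZJ ⊓ centralizer (T : Set G) : Subgroup G) : Set G) := by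
  rw [le_centralizer_iff]
  exact fun x hx => s.pair.fix ⟨hx.1, centralizer_le (by exact_mod_cast s.OT) hx.2⟩

section

variable (h : Gr S K B V ZJ L W Z C A q) (s : SelC S B V ZJ X T F) (hN : normalizer (B : Set G) ≤ X)
include h s hN

/-- **(b)** -/
theorem mem_of_conj {f x : G} (hf : f ∈ F) (hx : x ∈ ZJ)
    (hx0 : x ∉ centralizer (T : Set G)) (hfx : f * x * f⁻¹ ∈ ZJ) : f ∈ X := by
  have hSM : (S : Subgroup G) ≤ X := h.S_norm.trans hN
  have h1 : centralizer ((ZJ ⊓ centralizer (T : Set G) ⊔ zpowers x : Subgroup G) : Set G) ≤ X := by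
    refine s.cen _ (sup_le inf_le_left (by rw [zpowers_le]; exact hx)) ?_
    refine lt_of_le_of_ne le_sup_left fun e => hx0 ?_
    have h2 : x ∈ ZJ ⊓ centralizer (T : Set G) := by
      rw [e]
      exact mem_sup_right (mem_zpowers x)
    exact h2.2
  have h2 : cj f⁻¹ B ≤ X := by
    refine le_trans ?_ h1
    rw [le_centralizer_iff]
    refine sup_le (fun y hy => ?_) ?_
    · rw [mem_centralizer_iff]
      intro c hc
      rw [SetLike.mem_coe, mem_cj, inv_inv] at hc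
      have h3 := h.cB hc hy.1
      have h4 := mem_centralizer_iff.1 (s.FC hf) y hy
      have e1 : c * y = f⁻¹ * (f * c * f⁻¹ * (f * y)) := by group
      rw [e1, ← h4]
      have e2 : f⁻¹ * (f * c * f⁻¹ * (y * f)) = f⁻¹ * (f * c * f⁻¹ * y) * f := by group
      rw [e2, h3]
      have e3 : f⁻¹ * (y * (f * c * f⁻¹)) * f = f⁻¹ * (y * f) * c := by group
      rw [e3, h4]
      group
    · rw [zpowers_le, mem_centralizer_iff]
      intro c hc
      rw [SetLike.mem_coe, mem_cj, inv_inv] at hc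
      have h3 := h.cB hc hfx
      have h4 := congrArg (fun t => f⁻¹ * t * f) h3
      have e1 : f⁻¹ * (f * c * f⁻¹ * (f * x * f⁻¹)) * f = c * x := by group
      have e2 : f⁻¹ * (f * x * f⁻¹ * (f * c * f⁻¹)) * f = x * c := by group
      rw [← e1, ← e2]
      exact h4
  have h3 := inv_mem (mem_of_cj_B_le h.lb h.wc hSM hN h2)
  rwa [inv_inv] at h3

omit s hN in
theorem Z_one {i j : ι} (hij : i ≠ j) {x : G} (hi : x ∈ Z i) (hj : x ∈ Z j) : x = 1 := by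
  by_contra h1
  exact hij (h.Z_inj hi hj h1)

omit hN in
theorem not_C {r : Set ι} (hmv : ∀ i ∈ r, ∃ o ∈ o2 F, ∃ j, j ≠ i ∧ cj o (Z i) = Z j) {i : ι} (hi : i ∈ r) {x : G}
    (hx : x ∈ Z i) (hx1 : x ≠ 1) : x ∉ centralizer (T : Set G) := by
  intro hc
  obtain ⟨o, ho, j, hj, e⟩ := hmv i hi
  have h1 : o * x * o⁻¹ = x := by
    rw [mem_centralizer_iff.1 hc o (s.OT ho)]; group
  have h2 : x ∈ Z j := by
    rw [← e]
    exact ⟨x, hx, h1⟩
  exact hx1 (Z_one h hj h2 hx)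

/-- (b) for `x ∈ Z i` -/
theorem mem_of_Z {r : Set ι} (hmv : ∀ i ∈ r, ∃ o ∈ o2 F, ∃ j, j ≠ i ∧ cj o (Z i) = Z j) {i : ι} (hi : i ∈ r)
    {f x : G} (hf : f ∈ F) (hx : x ∈ Z i) (hx1 : x ≠ 1) (hfx : f * x * f⁻¹ ∈ ZJ) : f ∈ X :=
  mem_of_conj h s hN hf (h.Zle i hx) (not_C h s hmv hi hx hx1) hfx

/-- **(TI)** -/
theorem ti (hq : ∀ i, 1 < q i) {r : Set ι} (hrT : ∀ t ∈ T, ∀ i j, cj t (Z i) = Z j → i ∈ r → j ∈ r)
    (hrc : ∀ i ∈ r, ∀ j ∈ r, q i = q j)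
    (hmv : ∀ i ∈ r, ∃ o ∈ o2 F, ∃ j, j ≠ i ∧ cj o (Z i) = Z j) {i : ι} (hi : i ∈ r) {x : G} (hx : x ∈ W i)
    (hx1 : x ≠ 1) {f : G} (hf : f ∈ F) (hxf : x ∈ cj f (⨆ j ∈ r, W j)) : f ∈ X := by
  have hTS := s.TS
  have hTF : T ≤ F := s.pair.syl.1
  have hOF : ∀ a ∈ F, ∀ o ∈ o2 F, a * o * a⁻¹ ∈ o2 F := fun a ha o ho =>
    (mem_normalizer_iff.1 (le_normalizer_o2 F ha) o).1 ho
  have hAF : ∀ j, A j ≤ F := fun j => (h.AB j).trans (s.pair.BT.trans hTF)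
  -- `T` normalises `U`
  have hTU : ∀ t ∈ T, cj t (⨆ j ∈ r, W j) ≤ ⨆ j ∈ r, W j := by
    intro t ht
    rw [cj_le_iff]
    refine iSup₂_le fun j hj => ?_
    obtain ⟨l, hl1, hl2, -⟩ := h.exists_perm (hTS ht) j
    rw [← cj_le_iff, hl2]
    exact le_iSup₂_of_le l (hrT t ht j _ hl1 hj) le_rfl
  -- (TV)
  have hTV : ∀ j ∈ r, ∀ v ∈ W j, v ∉ Z j → ∀ z ∈ Z j, ∃ u ∈ o2 F, u * v * u⁻¹ = z * v := by
    intro j hj v hv hvZ z hz
    obtain ⟨o, ho, k, hk, e⟩ := hmv j hj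
    refine h.tv hq (O := o2 F) (fun a ha o ho => hOF a (hAF j ha) o ho) (inv_mem ho) ?_ hv hvZ hz
    rw [inv_inv, h.W_cj (hTS (s.OT ho)) e]
    exact h.WjC j k (Ne.symm hk)
  -- some `z ∈ Z i` in `U ^ f`
  obtain ⟨z, hz, hz1, hzf⟩ : ∃ z ∈ Z i, z ≠ 1 ∧ z ∈ cj f (⨆ j ∈ r, W j) := by
    by_cases hxZ : x ∈ Z i
    · exact ⟨x, hxZ, hx1, hxf⟩
    obtain ⟨z, hz, hz1⟩ := h.exists_ne hq i
    obtain ⟨u, hu, e⟩ := hTV i hi x hx hxZ z hz
    refine ⟨z, hz, hz1, ?_⟩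
    have h2 : u * x * u⁻¹ ∈ cj f (⨆ j ∈ r, W j) := by
      rw [mem_cj] at hxf ⊢
      have hu' : f⁻¹ * u * f ∈ T := s.OT (by
        have := hOF f⁻¹ (inv_mem hf) u hu
        rwa [inv_inv] at this)
      have h3 := hTU _ hu' ⟨_, hxf, rfl⟩
      change f⁻¹ * u * f * (f⁻¹ * x * f) * (f⁻¹ * u * f)⁻¹ ∈ _ at h3
      have e1 : f⁻¹ * u * f * (f⁻¹ * x * f) * (f⁻¹ * u * f)⁻¹ = f⁻¹ * (u * x * u⁻¹) * f := by group
      rwa [e1] at h3
    rw [e] at h2
    exact (Subgroup.mul_mem_cancel_right _ hxf).1 h2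
  -- `y = z ^ (f⁻¹) ∈ U`
  obtain ⟨y, hy, rfl⟩ := hzf
  change f * y * f⁻¹ ∈ Z i at hz
  change f * y * f⁻¹ ≠ 1 at hz1
  have hy1 : y ≠ 1 := by
    rintro rfl
    exact hz1 (by group)
  obtain ⟨m, hm, hmy⟩ := h.exists_conj hy
  obtain ⟨j, hj⟩ := h.fus (i := i) (x := m * y * m⁻¹) (g := m * f⁻¹) hmy (by
    have e1 : (m * f⁻¹)⁻¹ * (m * y * m⁻¹) * (m * f⁻¹) = f * y * f⁻¹ := by group
    rwa [e1])
  have hyW : y ∈ W j := by
    have h2 := h.ZW j hj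
    rw [← hm j] at h2
    rw [mem_cj] at h2
    have e1 : m⁻¹ * (m * y * m⁻¹) * m = y := by group
    rwa [e1] at h2
  have hjr : j ∈ r := by
    by_contra hcon
    apply hy1
    have h2 : (⨆ i ∈ r, W i) ≤ C j := iSup₂_le fun i hi => h.WjC j i fun e => hcon (e ▸ hi)
    have h3 : y ∈ W j ⊓ C j := ⟨hyW, h2 hy⟩
    rwa [h.dir, mem_bot] at h3
  -- `y ∈ Z j`
  have hyZ : y ∈ Z j := by
    by_contra hyZ
    have key : ∀ ζ ∈ Z j, f * ζ * f⁻¹ ∈ Z i := by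
      intro ζ hζ
      by_cases hζ1 : ζ = 1
      · rw [hζ1]; simp
      obtain ⟨u, hu, e⟩ := hTV j hjr y hyW hyZ ζ hζ
      have hu' : f * u * f⁻¹ ∈ T := s.OT (hOF f hf u hu)
      obtain ⟨k, hk1, -, -⟩ := h.exists_perm (hTS hu') i
      have h2 : f * u * f⁻¹ * (f * y * f⁻¹) * (f * u * f⁻¹)⁻¹ ∈ Z k := by
        rw [← hk1]
        exact ⟨_, hz, rfl⟩
      have e1 : f * u * f⁻¹ * (f * y * f⁻¹) * (f * u * f⁻¹)⁻¹ = (f * ζ * f⁻¹) * (f * y * f⁻¹) := by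
        have e2 : f * u * f⁻¹ * (f * y * f⁻¹) * (f * u * f⁻¹)⁻¹ = f * (u * y * u⁻¹) * f⁻¹ := by group
        rw [e2, e]; group
      rw [e1] at h2
      by_cases hk : k = i
      · rw [hk] at h2
        exact (Subgroup.mul_mem_cancel_right _ hz).1 h2
      exfalso
      -- two components
      have h3 : f * ζ * f⁻¹ ∈ ZJ := by
        have h4 := mul_mem (h.Zle _ h2) (inv_mem (h.Zle _ hz))
        rwa [mul_inv_cancel_right] at h4
      obtain ⟨l, hl⟩ := h.fus (i := j) (x := f * ζ * f⁻¹) (g := f) h3 (by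
        have e3 : f⁻¹ * (f * ζ * f⁻¹) * f = ζ := by group
        rwa [e3])
      have h6 : (f * ζ * f⁻¹) * (f * y * f⁻¹) ≠ 1 := by
        rw [← e1]
        intro e3
        exact hz1 (conj_eq_one_iff.1 e3)
      by_cases hli : l = i
      · subst hli
        exact h6 (Z_one h hk h2 (mul_mem hl hz))
      · -- the `i`-component of `ζ^f · z`
        have h7 : f * y * f⁻¹ ∈ C i := by
          have h8 : (f * ζ * f⁻¹) * (f * y * f⁻¹) ∈ C i := h.WjC i _ (Ne.symm hk) (h.ZW _ h2)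
          have h9 : f * ζ * f⁻¹ ∈ C i := h.WjC i _ (Ne.symm hli) (h.ZW _ hl)
          exact (Subgroup.mul_mem_cancel_left _ h9).1 h8
        have h8 : f * y * f⁻¹ ∈ W i ⊓ C i := ⟨h.ZW i hz, h7⟩
        rw [h.dir, mem_bot] at h8
        exact hz1 h8
    have h2 : cj f (Z j) = Z i := by
      refine Subgroup.eq_of_le_of_card_ge ?_ (by rw [card_cj, h.cardZ, h.cardZ, hrc i hi j hjr])
      rintro _ ⟨ζ, hζ, rfl⟩
      exact key ζ hζ
    rw [← h2] at hz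
    obtain ⟨ζ, hζ, e⟩ := hz
    apply hyZ
    have e1 : f * ζ * f⁻¹ = f * y * f⁻¹ := e
    have e2 : ζ = y := by
      have := congrArg (fun t => f⁻¹ * t * f) e1
      simpa [mul_assoc] using this
    rwa [← e2]
  exact mem_of_Z h s hN hmv hjr hf hyZ hy1 (h.Zle i hz)

/-- **CASE I.** -/
theorem phi_univ (hK : ∀ i, 4 ≤ q i) (hD : centralizer (ZJ : Set G) ≤ X) : ∀ i, i ∈ Phi Z T := by
  classical
  have hq : ∀ i, 1 < q i := fun i => by have := hK i; omega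
  by_contra hcon
  push Not at hcon
  obtain ⟨i₀, hi₀⟩ := hcon
  have hp := s.pair
  have hZM : normalizer (ZJ : Set G) ≤ X := h.lb.norm_zj_le.trans (sup_le hD hN)
  have hSM : (S : Subgroup G) ≤ X := h.S_norm.trans hN
  have hTM : T ≤ X := s.TS.trans hSM
  have hO : o2 F ≤ T := o2_le_syl hp.syl
  have hTF : T ≤ F := hp.syl.1
  obtain ⟨𝓐, hfam, hnJ, hA⟩ := h.fam X T F hp hD hTM hZM
  -- the orbit
  set r : Set ι := {j | ∃ o ∈ o2 F, cj o (Z i₀) = Z j} with hr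
  have hi₀r : i₀ ∈ r := ⟨1, one_mem _, cj_one _⟩
  have hrO : ∀ o ∈ o2 F, ∀ i j, cj o (Z i) = Z j → (i ∈ r ↔ j ∈ r) := by
    intro o ho i j e
    constructor
    · rintro ⟨o', ho', e'⟩
      exact ⟨o * o', mul_mem ho ho', SwapL.cj_mul_eq e' e⟩
    · rintro ⟨o', ho', e'⟩
      exact ⟨o⁻¹ * o', mul_mem (inv_mem ho) ho', SwapL.cj_mul_eq e' (SwapL.cj_inv_eq e)⟩
  have hrc' : ∀ i ∈ r, q i = q i₀ := by
    rintro i ⟨o, ho, e⟩
    rw [← h.cardZ, ← h.cardZ, ← e, card_cj]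
  have hrc : ∀ i ∈ r, ∀ j ∈ r, q i = q j := fun i hi j hj => (hrc' i hi).trans (hrc' j hj).symm
  -- an element of `Z_J` with support `r` centralised by `F`
  obtain ⟨x, hxr, hx1, hxO⟩ : ∃ x ∈ (⨆ j ∈ r, Z j : Subgroup G), x ≠ 1 ∧ x ∈ centralizer (o2 F : Set G) := by
    refine exists_fix (isPGroup_o2 F) ?_ ?_ ?_
    · exact (h.lb.Bp.to_le h.lb.ZB).to_le (iSup₂_le fun j _ => h.Zle j)
    · intro e
      have h1 : Z i₀ ≤ ⊥ := by
        rw [← e]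
        exact le_iSup₂_of_le i₀ hi₀r le_rfl
      exact h.Z_ne_bot hq i₀ (le_bot_iff.1 h1)
    · intro o ho
      rw [mem_normalizer_iff_cj]
      refine Subgroup.eq_of_le_of_card_ge ?_ (by rw [card_cj])
      rw [cj_le_iff]
      refine iSup₂_le fun j hj => ?_
      obtain ⟨l, hl⟩ := (h.norm o (h.S_norm (s.TS (hO ho)))).2 j
      rw [← cj_le_iff, hl]
      exact le_iSup₂_of_le l ((hrO o ho j l hl).1 hj) le_rfl
  have hxJ : x ∈ ZJ := (iSup₂_le fun j _ => h.Zle j : (⨆ j ∈ r, Z j : Subgroup G) ≤ ZJ) hxr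
  have hxF : ∀ f ∈ F, f * x = x * f := fun f hf =>
    mem_centralizer_iff.1 (hp.fix ⟨hxJ, hxO⟩) f hf
  have hxfix : ∀ f ∈ F, f * x * f⁻¹ = x := fun f hf => by rw [hxF f hf]; group
  have hxs : ∀ i, x ∈ C i ↔ i ∉ r := by
    have h1 : ∀ i, i ∉ r → x ∈ C i := by
      intro i hi
      have h2 : (⨆ j ∈ r, Z j : Subgroup G) ≤ C i :=
        iSup₂_le fun j hj => (h.ZW j).trans (h.WjC i j fun e => hi (e ▸ hj))
      exact h2 hxr
    obtain ⟨j₁, hj₁⟩ : ∃ j, x ∉ C j := by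
      by_contra hcon
      push Not at hcon
      exact hx1 (h.C0 x (h.ZJV hxJ) hcon)
    have hj₁r : j₁ ∈ r := by
      by_contra h2
      exact hj₁ (h1 j₁ h2)
    intro i
    refine ⟨fun h2 hi => ?_, h1 i⟩
    obtain ⟨o, ho, e⟩ := hi
    obtain ⟨o', ho', e'⟩ := hj₁r
    have ho'' : o' * o⁻¹ ∈ o2 F := mul_mem ho' (inv_mem ho)
    have e2 : cj (o' * o⁻¹) (Z i) = Z j₁ := SwapL.cj_mul_eq (SwapL.cj_inv_eq e) e'
    have h3 := (h.supp (s.TS (hO ho'')) e2 x).2 h2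
    rw [hxfix _ (hTF (hO ho''))] at h3
    exact hj₁ h3
  -- `T` stabilises `r`
  have hrT : ∀ t ∈ T, ∀ i j, cj t (Z i) = Z j → i ∈ r → j ∈ r := by
    intro t ht i j e hi
    by_contra hj
    have h1 := (h.supp (s.TS ht) e x).1
    rw [hxfix t (hTF ht)] at h1
    exact (hxs i).1 (h1 ((hxs j).2 hj)) hi
  -- an element of `O₂(F)` moves `i₀`
  obtain ⟨j₀, hj₀r, hij₀⟩ : ∃ j₀ ∈ r, i₀ ≠ j₀ := by
    have h1 : ∃ t ∈ T, cj t (Z i₀) ≠ Z i₀ := by
      by_contra hcon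
      push Not at hcon
      exact hi₀ hcon
    obtain ⟨t, ht, hne⟩ := h1
    obtain ⟨j, hj⟩ := (h.norm t (h.S_norm (s.TS ht))).2 i₀
    exact ⟨j, hrT t ht i₀ j hj hi₀r, fun e => hne (by rw [hj, ← e])⟩
  -- every index in `r` is moved by `O₂(F)`
  have hmv : ∀ i ∈ r, ∃ o ∈ o2 F, ∃ j, j ≠ i ∧ cj o (Z i) = Z j := by
    rintro i ⟨o, ho, e⟩
    by_cases h1 : i₀ = i
    · subst h1
      obtain ⟨o', ho', e'⟩ := hj₀r
      exact ⟨o', ho', j₀, hij₀.symm, e'⟩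
    · exact ⟨o⁻¹, inv_mem ho, i₀, h1, SwapL.cj_inv_eq e⟩
  have hTI : ∀ i ∈ r, ∀ x ∈ W i, x ≠ 1 → ∀ f ∈ F, x ∈ cj f (⨆ j ∈ r, W j) → f ∈ X :=
    fun i hi x hx hx1 f hf hxf => ti h s hN hq hrT hrc hmv hi hx hx1 hf hxf
  have hWU : ∀ i ∈ r, W i ≤ ⨆ j ∈ r, W j := fun i hi => le_iSup₂_of_le i hi le_rfl
  have hNW : ∀ i ∈ r, ∀ x ∈ W i, x ≠ 1 → ∀ f ∈ F, f * x = x * f → f ∈ X := by
    intro i hi x hx hx1 f hf hfx
    refine hTI i hi x hx hx1 f hf ?_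
    rw [mem_cj]
    have e : f⁻¹ * x * f = x := by rw [mul_assoc, ← hfx]; group
    rw [e]
    exact hWU i hi hx
  -- the situation
  have hWV : ∀ i, W i ≤ V := h.WV
  have hsup : (⨆ j : r, W j) = ⨆ j ∈ r, W j := iSup_subtype' (f := fun j (_ : j ∈ r) => W j) |>.symm
  have hUV : (⨆ j : r, W j) ≤ V := iSup_le fun j => hWV j
  have hVel := elab_V h hp
  have hLV : NoFF.Basic.V (⨆ j : r, W j) F ≤ NoFF.Basic.V V F :=
    NoFF.Basic.V_le fun f hf => (cj_mono f hUV).trans (NoFF.Basic.Z_le_V hf)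
  have hΛ : IsElementaryAbelian 2 (NoFF.Basic.V (⨆ j : r, W j) F) := Swap.elab_mono hVel hLV
  have hUF : (⨆ j : r, W j) ≤ F := hUV.trans (hp.VO.trans (o2_le F))
  have hTperm : ∀ t ∈ T, ∀ i : r, ∃ j : r, cj t (W i) = W j := by
    rintro t ht ⟨i, hi⟩
    obtain ⟨j, hj1, hj2, -⟩ := h.exists_perm (s.TS ht) i
    exact ⟨⟨j, hrT t ht i _ hj1 hi⟩, hj2⟩
  have hOne : Swap.Fam.One F T (F ⊓ X) 𝓐 (⨆ j : r, W j) (fun j : r => W j) (fun j : r => Z j) :=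
    { syl := hp.syl
      TF₀ := le_inf hTF hTM
      F₀F := lt_of_le_of_ne inf_le_left fun e => hp.nM (inf_eq_left.1 e)
      max := fun K hTK hKF => le_inf hKF.le (hp.min K hTK hKF)
      fam := hfam _ hΛ (NoFF.Basic.V_le fun f hf => by
        have := cj_mono f hUF
        rwa [cj_eq_of_mem_normalizer (le_normalizer hf)] at this) OmThm.XD.X_le_normalizer_W hLV
      nJ := hnJ
      ne := ⟨⟨i₀, hi₀r⟩⟩
      UO := hUV.trans hp.VO
      TU := fun t ht => by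
        rw [mem_normalizer_iff_cj]
        refine Subgroup.eq_of_le_of_card_ge ?_ (by rw [card_cj])
        rw [cj_le_iff]
        refine iSup_le fun j => ?_
        obtain ⟨l, hl⟩ := hTperm t ht j
        rw [← cj_le_iff, hl]
        exact le_iSup (fun j : r => W j) l
      comm := Swap.elab_comm hΛ
      sq := Swap.elab_sq hΛ
      sup := rfl
      H1 := fun i f hf hfz => by
        obtain ⟨z, hz, hz1⟩ := h.exists_ne hq (i : ι)
        exact ⟨hf, hNW i i.2 z (h.ZW i hz) hz1 f hf (hfz z hz)⟩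
      H2 := fun E hE hET i => (hA E hE hET).2 i
      H3 := fun i => by
        obtain ⟨o, ho, j, hj, e⟩ := hmv i i.2
        have h1 := h.h3 hq (O := o2 F) (j := (i : ι)) (fun a ha o ho => ?_) (inv_mem ho) ?_ (h.BW hq i)
        · exact h1.trans (commutator_mono (le_iSup (fun j : r => W j) i) le_rfl)
        · have h2 : a ∈ F := hTF (hp.BT (h.AB i ha))
          exact (mem_normalizer_iff.1 (le_normalizer_o2 F h2) o).1 ho
        · rw [inv_inv, h.W_cj (s.TS (hO ho)) e]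
          exact h.WjC i j hj.symm
      H4 := by
        rintro f ⟨hf, hfU⟩
        obtain ⟨z, hz, hz1⟩ := h.exists_ne hq i₀
        refine ⟨hf, hTI i₀ hi₀r z (h.ZW i₀ hz) hz1 f hf ?_⟩
        rw [← hsup, mem_normalizer_iff_cj.1 hfU, hsup]
        exact hWU i₀ hi₀r (h.ZW i₀ hz) }
  have h16 : ∀ i : r, 16 ≤ Nat.card (W (i : ι)) := fun i => by
    rw [h.cardW]
    exact Nat.mul_le_mul (hK i) (hK i)
  have hcost := cost_blocks (T := T) (U := ⨆ j : r, W j) (V := fun j : r => W j) rfl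
    (fun x hx y hy => h.Vc (hUV hx) (hUV hy))
    (fun x hx => h.V2 (hUV hx)) ?_ hTperm h16
  · refine hOne.false_of_count ?_ hcost
    rintro x - ⟨hx1, i, hxi⟩ f hf hfx
    exact ⟨hf, hNW i i.2 x hxi hx1 f hf hfx⟩
  · rintro ⟨i, hi⟩ x hx hx'
    have h1 : (⨆ j : r, ⨆ _ : j ≠ ⟨i, hi⟩, W (j : ι)) ≤ C i := by
      refine iSup_le fun j => iSup_le fun hj => ?_
      exact h.WjC i j fun e => hj (Subtype.ext e.symm)
    have h2 : x ∈ W i ⊓ C i := mem_inf.2 ⟨hx, h1 hx'⟩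
    rwa [h.dir i, mem_bot] at h2

/-- the chosen pair of `Max.lean` -/
theorem sel (hK : ∀ i, 4 ≤ q i) (hD : centralizer (ZJ : Set G) ≤ X) : Sel S B V ZJ Z X T F :=
  ⟨s.pair, s.TS, fun _ _ _ hj => by
    obtain ⟨j, hj, -⟩ := hj
    exact absurd (phi_univ h s hN hK hD j) hj, fun _ => s.cen⟩

end

end SelC

/-- **(Om), `q ≥ 4`, inside `C_G(Z₁)`, `1 ≠ Z₁ ≤ Ω₁Z(S)`.** -/
theorem Gr.cz_leC' (h : Gr S K B V ZJ L W Z C A q) (hq : ∀ i, 4 ≤ q i)
    (h4 : ∀ i j, q i = 4 → q j = 4) {X Z₁ : Subgroup G} (hZ : Z₁ ≤ zc (S : Subgroup G)) (hZ1 : Z₁ ≠ ⊥)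
    (hZJ : Z₁ ≤ ZJ) (hBM : BMH K B X (centralizer (Z₁ : Set G))) (hL : ∀ i, L i ≤ X)
    (hD : centralizer (ZJ : Set G) ≤ X) (hN : normalizer (B : Set G) ≤ X) : centralizer (Z₁ : Set G) ≤ X := by
  by_contra hM
  obtain ⟨T, F, s', -⟩ := exists_selC h hZ hZ1 hZJ hBM hD hN hM
  have hall := SelC.phi_univ h s' hN hq hD
  have s := SelC.sel h s' hN hq hD
  by_cases h0 : ∃ i, q i = 4
  · obtain ⟨i, hi⟩ := h0
    exact caseFour h s hL hD hN hall fun j => h4 i j hi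
  · push Not at h0
    have h1 := caseTwo h hq s hL hD hN hall
    have hp := s.pair
    have hO : o2 F ≤ T := o2_le_syl hp.syl
    apply hp.nM
    have h2 : ZJ ≤ centralizer (F : Set G) := by
      intro z hz
      refine hp.fix ⟨hz, centralizer_le (by exact_mod_cast hO) ?_⟩
      exact (iSup_le fun i => h1 i (h0 i)) (h.sup hz)
    exact (le_centralizer_iff.1 h2).trans hD

/-- **(Om), `q ≥ 4`, inside `C_G(Ω₁Z(S))`.** -/
theorem Gr.cz_leC (h : Gr S K B V ZJ L W Z C A q) (hq : ∀ i, 4 ≤ q i)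
    (h4 : ∀ i j, q i = 4 → q j = 4) {X : Subgroup G} (hS1 : (S : Subgroup G) ≠ ⊥)
    (hzB : zc B ≤ ZJ) (hBM : BMH K B X (centralizer (zc (S : Subgroup G) : Set G))) (hL : ∀ i, L i ≤ X)
    (hD : centralizer (ZJ : Set G) ≤ X) (hN : normalizer (B : Set G) ≤ X) :
    centralizer (zc (S : Subgroup G) : Set G) ≤ X :=
  h.cz_leC' hq h4 le_rfl (zc_ne_bot S.isPGroup' hS1) (h.zc_le hzB) hBM hL hD hN

end Cfsg.Agent.Omega.OM.SwapV.Q

end

end
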