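import Cfsg.Agent.Mrg.Omega.OM.Uni
import Cfsg.Agent.Mrg.Omega.OM.SwapV.Q.Def
import Cfsg.Agent.Mrg.Omega.OM.SwapV.NegPair
import Cfsg.Agent.Mrg.Omega.OM.Var.UniPlusV
import Cfsg.Agent.Mrg.Omega.FF.GlobEnd
import Cfsg.Agent.Mrg.Omega.NOThreeL.RRed.BFr.Noff
import Cfsg.Agent.Mrg.Omega.OM.Lev.Main

-- merged: Cfsg.Agent.Mrg.Omega.OM.SwapV.Q.NegMod
section

/-!
# Module facts over the frame `Uni.Fr` (stage `-1`), any `q`

The texts of `SWQ/ModQ.lean` and `SWQ/HThree.lean` (frame `FrL`) with `Fr` in place of `FrL`: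
* `root`, `rootV`, `step`, `trW` : `A i` is a full root group; `L i` fuses `W i` into `Z i`;
* `conj_ZJ` : every element of `∏_{i ∈ r} W i` is conjugate under `⟨L i : i ∈ r⟩` to an element of `∏_{i ∈ r} Z i`;
* `W_inf_ZJ`, `ZJ_le_sup`; `h2` : an elementary abelian subgroup of `B` of maximal order centralises `W i` or
  `Z i ≤ ⟨x x^a⟩`.
-/

set_option autoImplicit false
set_option linter.unusedSectionVars false

namespace Cfsg.Agent.Omega.OM.SwapV.Q.NegMod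

open Subgroup Cfsg Cfsg.Agent.PLocal.ThompsonJ Cfsg.Agent.ZN Cfsg.Agent.ZN.ChoiceBase
open Cfsg.Agent.PLocal.ElemAbSup
open Cfsg.Agent.Omega.SQ1.Bau (mem_sup_comm card_sup_comm elem_comm elem_sq)
open Cfsg.Agent.Omega.OM.BlockUniq
open Cfsg.Agent.Omega.OM.Uni
open scoped Pointwise commutatorElement

universe u

variable {G : Type u} [Group G]

section fr

variable {ι : Type*} {B Q V ZJ : Subgroup G} {L W Z C A : ι → Subgroup G} {q m : ℕ}
  (h : Fr B Q V ZJ L W Z C A q m)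
include h

theorem Z_inf {i j : ι} (hij : i ≠ j) {x : G} (hi : x ∈ Z i) (hj : x ∈ Z j) : x = 1 := by
  have h1 : x ∈ W i ⊓ C i := mem_inf.2 ⟨(h.blk i).ZV hi, h.WjC i j hij ((h.blk j).ZV hj)⟩
  rwa [h.dir i, mem_bot] at h1

/-- `[V, B] ≤ ZJ` -/
theorem comm_B [Finite ι] {b v : G} (hb : b ∈ B) (hv : v ∈ V) : b * v * b⁻¹ * v⁻¹ ∈ ZJ := by
  -- the elements of `V` with this property
  let T : Subgroup G :=
    { carrier := {v | v ∈ V ∧ b * v * b⁻¹ * v⁻¹ ∈ ZJ}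
      one_mem' := ⟨one_mem _, by simp⟩
      mul_mem' := by
        rintro x y ⟨hx, hx'⟩ ⟨hy, hy'⟩
        refine ⟨mul_mem hx hy, ?_⟩
        have h1 := h.Vc hx (h.ZJV hy')
        have e : b * (x * y) * b⁻¹ * (x * y)⁻¹ = b * x * b⁻¹ * (b * y * b⁻¹ * y⁻¹) * x⁻¹ := by group
        have e2 : b * x * b⁻¹ * (b * y * b⁻¹ * y⁻¹) * x⁻¹ = (b * x * b⁻¹ * x⁻¹) * (b * y * b⁻¹ * y⁻¹) := by
          calc b * x * b⁻¹ * (b * y * b⁻¹ * y⁻¹) * x⁻¹ =
                b * x * b⁻¹ * x⁻¹ * (x * (b * y * b⁻¹ * y⁻¹)) * x⁻¹ := by group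
            _ = b * x * b⁻¹ * x⁻¹ * (b * y * b⁻¹ * y⁻¹) := by rw [h1]; group
        rw [e, e2]
        exact mul_mem hx' hy'
      inv_mem' := by
        rintro x ⟨hx, hx'⟩
        refine ⟨inv_mem hx, ?_⟩
        have h1 := h.Vc hx (h.ZJV hx')
        have e2 : b * x⁻¹ * b⁻¹ * x⁻¹⁻¹ = (b * x * b⁻¹ * x⁻¹)⁻¹ := by
          have e3 : b * x⁻¹ * b⁻¹ * x⁻¹⁻¹ = x⁻¹ * (b * x * b⁻¹ * x⁻¹)⁻¹ * x := by group
          have h2 := h.Vc (inv_mem (h.ZJV hx')) hx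
          rw [e3, mul_assoc, h2]; group
        rw [e2]
        exact inv_mem hx' }
  have hT : V ≤ T := by
    conv_lhs => rw [h.V_eq]
    refine iSup_le fun i w hw => ⟨h.WV i hw, h.Z_le i ((h.blk i).com b hb w hw)⟩
  exact (hT hv).2

/-- `L i` normalises `W i * ZJ` -/
theorem nE {i : ι} {l : G} (hl : l ∈ L i) {e : G} (he : e ∈ W i ⊔ ZJ) : l * e * l⁻¹ ∈ W i ⊔ ZJ := by
  obtain ⟨v, hv, z, hz, rfl⟩ := mem_sup_comm (fun v hv z hz => h.Vc (h.WV i hv) (h.ZJV hz)) he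
  have hz' : z ∈ zc B := by rw [h.zcB]; exact hz
  have e1 : l * (v * z) * l⁻¹ = (l * v * l⁻¹) * (l * z * l⁻¹ * z⁻¹) * z := by group
  rw [e1]
  exact mul_mem (mem_sup_left (mul_mem ((h.blk i).nV l hl v hv) ((h.blk i).act l hl z hz'))) (mem_sup_right hz)

/-- a subgroup `N` of `V` normalised by `L i` with `[U, B ^ x] ≤ N`, `x ∈ L i`: `[U, L i] ≤ N` -/
theorem comm_gen {i : ι} {N U : Subgroup G} (hN : ∀ l ∈ L i, ∀ n ∈ N, l * n * l⁻¹ ∈ N)
    (hB : ∀ x ∈ L i, ∀ b ∈ cj x B, ∀ u ∈ U, b * u * b⁻¹ * u⁻¹ ∈ N) {l : G} (hl : l ∈ L i) {u : G} (hu : u ∈ U) :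
    l * u * l⁻¹ * u⁻¹ ∈ N := by
  let T : Subgroup G :=
    { carrier := {l | l ∈ L i ∧ ∀ u ∈ U, l * u * l⁻¹ * u⁻¹ ∈ N}
      one_mem' := ⟨one_mem _, fun u _ => by simp⟩
      mul_mem' := by
        rintro x y ⟨hx, hx'⟩ ⟨hy, hy'⟩
        refine ⟨mul_mem hx hy, fun u hu => ?_⟩
        have e : x * y * u * (x * y)⁻¹ * u⁻¹ = (x * (y * u * y⁻¹ * u⁻¹) * x⁻¹) * (x * u * x⁻¹ * u⁻¹) := by group
        rw [e]
        exact mul_mem (hN x hx _ (hy' u hu)) (hx' u hu)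
      inv_mem' := by
        rintro x ⟨hx, hx'⟩
        refine ⟨inv_mem hx, fun u hu => ?_⟩
        have e : x⁻¹ * u * x⁻¹⁻¹ * u⁻¹ = x⁻¹ * (x * u * x⁻¹ * u⁻¹)⁻¹ * x⁻¹⁻¹ := by group
        rw [e]
        exact hN x⁻¹ (inv_mem hx) _ (inv_mem (hx' u hu)) }
  have hT : L i ≤ T := by
    refine (h.blk i).gen.trans (iSup_le fun x b hb => ⟨?_, hB x x.2 b hb⟩)
    obtain ⟨b', hb', rfl⟩ := hb
    exact mul_mem (mul_mem x.2 ((h.blk i).BL hb')) (inv_mem x.2)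
  exact (hT hl).2 u hu

/-- `[V, L i] ≤ W i * ZJ` -/
theorem comm_L [Finite ι] {i : ι} {l v : G} (hl : l ∈ L i) (hv : v ∈ V) : l * v * l⁻¹ * v⁻¹ ∈ W i ⊔ ZJ := by
  refine comm_gen h (fun l hl n hn => nE h hl hn) (fun x hx b hb u hu => ?_) hl hv
  rw [mem_cj] at hb
  have h1 := h.LV i x⁻¹ (inv_mem hx) u hu
  rw [inv_inv] at h1
  have h2 := nE h hx (mem_sup_right (comm_B h hb h1))
  have e : x * ((x⁻¹ * b * x) * (x⁻¹ * u * x) * (x⁻¹ * b * x)⁻¹ * (x⁻¹ * u * x)⁻¹) * x⁻¹ = b * u * b⁻¹ * u⁻¹ := by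
    group
  rwa [e] at h2

/-- `[W j, L i] ≤ W i * Z j`, `i ≠ j` -/
theorem comm_W [Finite ι] {i j : ι} (hij : i ≠ j) {l w : G} (hl : l ∈ L i) (hw : w ∈ W j) :
    l * w * l⁻¹ * w⁻¹ ∈ W i ⊔ Z j := by
  have hzc : ∀ l ∈ L i, ∀ z ∈ Z j, l * z = z * l := fun l hl z hz =>
    h.LC i l hl z (h.Z_le j hz) (h.WjC i j hij ((h.blk j).ZV hz))
  have hN : ∀ l ∈ L i, ∀ n ∈ W i ⊔ Z j, l * n * l⁻¹ ∈ W i ⊔ Z j := by
    intro l hl n hn
    obtain ⟨v, hv, z, hz, rfl⟩ := mem_sup_comm (fun v hv z hz => h.Vc (h.WV i hv) (h.ZV j hz)) hn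
    have e1 : l * (v * z) * l⁻¹ = (l * v * l⁻¹) * (l * z * l⁻¹) := by group
    rw [e1, hzc l hl z hz, mul_inv_cancel_right]
    exact mul_mem (mem_sup_left ((h.blk i).nV l hl v hv)) (mem_sup_right hz)
  refine comm_gen h hN (fun x hx b hb u hu => ?_) hl hw
  rw [mem_cj] at hb
  -- `x⁻¹ u x = u y`, `y ∈ W i * ZJ`
  have h1 := comm_L h (inv_mem hx) (h.WV j hu)
  rw [inv_inv] at h1
  obtain ⟨y, hy, t, ht, e⟩ := mem_sup_comm (fun v hv z hz => h.Vc (h.WV i hv) (h.ZJV hz)) h1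
  have e0 : x⁻¹ * u * x = y * t * u := by
    rw [← e]; group
  obtain ⟨c, hc⟩ : ∃ c, c = x⁻¹ * b * x := ⟨_, rfl⟩
  rw [← hc] at hb
  have h2 := (h.blk i).com c hb y hy
  have h3 := (h.blk j).com c hb u hu
  have h4 := ((h.mem_ZJ t).1 ht).2 c hb
  have hy' := h.WV i hy
  have ht' := h.ZJV ht
  have hu' := h.WV j hu
  have e2 : c * (x⁻¹ * u * x) * c⁻¹ * (x⁻¹ * u * x)⁻¹ = (c * y * c⁻¹ * y⁻¹) * (c * u * c⁻¹ * u⁻¹) := by
    rw [e0]
    have k1 : y * (t * (c * u * c⁻¹ * u⁻¹) * t⁻¹) = (c * u * c⁻¹ * u⁻¹) * y := by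
      have k2 := h.Vc ht' (h.ZV j h3)
      have k3 := h.Vc hy' (h.ZV j h3)
      rw [k2, mul_inv_cancel_right, k3]
    calc c * (y * t * u) * c⁻¹ * (y * t * u)⁻¹
        = (c * y * c⁻¹) * (c * t) * c⁻¹ * (c * u * c⁻¹ * u⁻¹) * t⁻¹ * y⁻¹ := by group
      _ = (c * y * c⁻¹ * y⁻¹) * (y * (t * (c * u * c⁻¹ * u⁻¹) * t⁻¹)) * y⁻¹ := by rw [h4]; group
      _ = _ := by rw [k1]; group
  have h5 := hN x hx _ (mul_mem (mem_sup_left ((h.blk i).ZV h2)) (mem_sup_right h3))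
  rw [← e2, hc] at h5
  have e3 : x * ((x⁻¹ * b * x) * (x⁻¹ * u * x) * (x⁻¹ * b * x)⁻¹ * (x⁻¹ * u * x)⁻¹) * x⁻¹ = b * u * b⁻¹ * u⁻¹ := by
    group
  rwa [e3] at h5

/-- `⟨W j : j ∈ r⟩` is invariant under `L i`, `i ∈ r` -/
theorem nWr [Finite ι] {r : Set ι} {i : ι} (hi : i ∈ r) {l : G} (hl : l ∈ L i) {x : G} (hx : x ∈ ⨆ j ∈ r, W j) :
    l * x * l⁻¹ ∈ ⨆ j ∈ r, W j := by
  have h1 : (⨆ j ∈ r, W j) ≤ (⨆ j ∈ r, W j).comap (MulAut.conj l).toMonoidHom := by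
    refine iSup₂_le fun j hj w hw => ?_
    show l * w * l⁻¹ ∈ ⨆ j ∈ r, W j
    have hWj : W j ≤ ⨆ j ∈ r, W j := le_iSup₂_of_le j hj le_rfl
    have hWi : W i ≤ ⨆ j ∈ r, W j := le_iSup₂_of_le i hi le_rfl
    by_cases hij : i = j
    · subst hij
      exact hWi ((h.blk i).nV l hl w hw)
    · have h2 := comm_W h hij hl hw
      have h3 : l * w * l⁻¹ * w⁻¹ ∈ ⨆ j ∈ r, W j := (sup_le hWi ((h.blk j).ZV.trans hWj)) h2
      have h4 := mul_mem h3 (hWj hw)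
      rwa [inv_mul_cancel_right] at h4
  exact h1 hx

/-- `A i` acts as a full root group. -/
theorem root [Finite G] {i : ι} {v z : G} (hv : v ∈ W i) (hvZ : v ∉ Z i) (hz : z ∈ Z i) :
    ∃ a ∈ A i, a * v * a⁻¹ * v⁻¹ = z := by
  obtain ⟨R, h1, h2, -, h4⟩ := (h.blk i).toMd.relIndex_comm (h.AB i) hv hvZ
  have h5 := (h.A_full i).2.2
  rw [← h5] at h4
  have h6 : Nat.card R = q := Nat.eq_of_mul_eq_mul_right Nat.card_pos h4
  have h7 : R = Z i := Subgroup.eq_of_le_of_card_ge h1 (by rw [h6, h.cardZ])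
  rw [← h7] at hz
  obtain ⟨x, hx, e⟩ := h2 z hz
  exact ⟨x, hx, e.symm⟩

/-- `[v, A i] = Z i` if `A i` does not centralise `v ∈ V`. -/
theorem rootV [Finite G] {i : ι} {v z : G} (hv : v ∈ V) (hvA : ¬ ∀ a ∈ A i, a * v = v * a) (hz : z ∈ Z i) :
    ∃ a ∈ A i, a * v * a⁻¹ * v⁻¹ = z := by
  obtain ⟨w, hw, c, hc, rfl⟩ := h.WC i v hv
  have hwZ : w ∉ Z i := by
    intro hwZ
    apply hvA
    intro a ha
    have c1 : Commute a w := (h.blk i).cZ a (h.AB i ha) w hwZ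
    have c2 : Commute a c := h.AC i a ha c hc
    exact (c1.mul_right c2).eq
  obtain ⟨a, ha, e⟩ := root h hw hwZ hz
  refine ⟨a, ha, ?_⟩
  have h1 := h.AC i a ha c hc
  have e1 : a * c * a⁻¹ = c := by rw [h1]; group
  have e2 : a * (w * c) * a⁻¹ * (w * c)⁻¹ = a * w * a⁻¹ * (a * c * a⁻¹) * c⁻¹ * w⁻¹ := by group
  rw [e2, e1, ← e]; group

/-- one step: an `L i`-conjugate of `v` is centralised by `A i` -/
theorem step [Finite G] (i : ι) {v : G} (hv : v ∈ V) :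
    ∃ l ∈ L i, ∀ a ∈ A i, a * (l * v * l⁻¹) = l * v * l⁻¹ * a := by
  by_cases h0 : ∀ a ∈ A i, a * v = v * a
  · exact ⟨1, one_mem _, fun a ha => by simpa using h0 a ha⟩
  obtain ⟨l, hl, hne⟩ := h.exists_mv i
  -- `H' = C_V(A i ^ l)`
  obtain ⟨H, hH⟩ : ∃ H, H = V ⊓ centralizer (A i : Set G) := ⟨_, rfl⟩
  have hHc : Nat.card V = Nat.card H * q := by rw [hH]; exact h.card_CVA i
  have hmem : ∀ u, u ∈ cj l H → ∀ a ∈ A i, a * (l⁻¹ * u * l) = l⁻¹ * u * l * a := by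
    intro u hu a ha
    rw [mem_cj, hH] at hu
    exact mem_centralizer_iff.1 (mem_inf.1 hu).2 a ha
  have hHV : cj l H ≤ V := by
    rw [← h.cj_V hl]
    exact cj_mono l (by rw [hH]; exact inf_le_left)
  have hint : Z i ⊓ cj l H = ⊥ := by
    rw [eq_bot_iff]
    rintro x ⟨hx, hxH⟩
    have h5 := hmem _ hxH
    have h6 : l⁻¹ * x * l ∈ Z i := by
      rw [← (h.A_full i).2.1]
      exact mem_inf.2 ⟨(h.blk i).nV' hl ((h.blk i).ZV hx), mem_centralizer_iff.2 h5⟩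
    have h7 : x ∈ cj l (Z i) ⊓ Z i := mem_inf.2 ⟨mem_cj.2 h6, hx⟩
    rwa [h.tri' hl hne] at h7
  have hsup : V = Z i ⊔ cj l H := by
    symm
    refine Subgroup.eq_of_le_of_card_ge (sup_le (h.ZV i) hHV) ?_
    have h1 := card_sup_comm (A := Z i) (B := cj l H) fun a ha b hb => h.Vc (h.ZV i ha) (hHV hb)
    rw [hint, card_bot, mul_one, h.cardZ, card_cj] at h1
    rw [h1, hHc, mul_comm]
  have hv' := hv
  rw [hsup] at hv'
  obtain ⟨z, hz, y, hy, e⟩ := mem_sup_comm (fun a ha b hb => h.Vc (h.ZV i ha) (hHV hb)) hv'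
  obtain ⟨a, ha, e'⟩ := rootV h hv h0 (inv_mem hz)
  have h5 : a * v * a⁻¹ = y := by
    have e1 : a * v * a⁻¹ = a * v * a⁻¹ * v⁻¹ * v := by group
    rw [e1, e', e]; group
  have haL : a ∈ L i := (h.blk i).BL (h.AB i ha)
  refine ⟨l⁻¹ * a, mul_mem (inv_mem hl) haL, fun a' ha' => ?_⟩
  have h6 := hmem _ hy a' ha'
  rw [← h5] at h6
  have e : l⁻¹ * a * v * (l⁻¹ * a)⁻¹ = l⁻¹ * (a * v * a⁻¹) * l := by group
  rw [e]; exact h6

/-- `L i` is transitive on `W i`, mod `Z i`. -/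
theorem trW [Finite G] {i : ι} {x : G} (hx : x ∈ W i) : ∃ l ∈ L i, l * x * l⁻¹ ∈ Z i := by
  obtain ⟨l, hl, h1⟩ := step h i (h.WV i hx)
  refine ⟨l, hl, ?_⟩
  rw [← (h.A_full i).2.1]
  exact mem_inf.2 ⟨(h.blk i).nV l hl x hx, mem_centralizer_iff.2 fun a ha => h1 a ha⟩

/-- `A j` centralises `W i * ZJ`, so it centralises `v` iff it centralises `v ^ l`, `l ∈ L i` -/
theorem keep [Finite ι] {i j : ι} (hij : i ≠ j) {l v : G} (hl : l ∈ L i) (hv : v ∈ V)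
    (hj : ∀ a ∈ A j, a * v = v * a) : ∀ a ∈ A j, a * (l * v * l⁻¹) = l * v * l⁻¹ * a := by
  intro a ha
  obtain ⟨w, hw, z, hz, e⟩ := mem_sup_comm (fun v hv z hz => h.Vc (h.WV i hv) (h.ZJV hz)) (comm_L h hl hv)
  have e1 : l * v * l⁻¹ = w * z * v := by rw [← e]; group
  have c1 : Commute a w := h.AC j a ha w (h.WjC j i (Ne.symm hij) hw)
  have c2 : Commute a z := ((h.mem_ZJ z).1 hz).2 a (h.AB j ha)
  have c3 : Commute a v := hj a ha
  rw [e1]
  exact ((c1.mul_right c2).mul_right c3).eq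

/-- a `⟨L i : i ∈ r⟩`-conjugate of `x ∈ ⟨W i : i ∈ r⟩` lies in `ZJ` -/
theorem conj_aux [Finite G] [Finite ι] (r : Set ι) {x : G} (hx : x ∈ ⨆ i ∈ r, W i) : ∀ s : Finset ι, (∀ i ∈ s, i ∈ r) →
    ∃ g ∈ ⨆ i ∈ r, L i, g * x * g⁻¹ ∈ ⨆ i ∈ r, W i ∧ ∀ i, (i ∈ s ∨ i ∉ r) →
      ∀ a ∈ A i, a * (g * x * g⁻¹) = g * x * g⁻¹ * a := by
  classical
  have hWV : (⨆ i ∈ r, W i) ≤ V := iSup₂_le fun i _ => h.WV i
  intro s
  induction s using Finset.induction_on with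
  | empty =>
    intro _
    refine ⟨1, one_mem _, by simpa using hx, fun i hi a ha => ?_⟩
    rcases hi with hi | hi
    · exact absurd hi (Finset.notMem_empty i)
    have h1 : (⨆ j ∈ r, W j) ≤ C i := iSup₂_le fun j hj => h.WjC i j (fun e => hi (e ▸ hj))
    have := h.AC i a ha x (h1 hx)
    simpa using this
  | insert i s hi ih =>
    intro hs
    obtain ⟨g, hg, hgW, hgA⟩ := ih fun j hj => hs j (Finset.mem_insert_of_mem hj)
    have hir : i ∈ r := hs i (Finset.mem_insert_self i s)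
    obtain ⟨l, hl, hlA⟩ := step h i (hWV hgW)
    have hLr : L i ≤ ⨆ i ∈ r, L i := le_iSup₂_of_le i hir le_rfl
    have e : ∀ y, l * (g * y * g⁻¹) * l⁻¹ = (l * g) * y * (l * g)⁻¹ := fun y => by group
    refine ⟨l * g, mul_mem (hLr hl) hg, ?_, fun j hj => ?_⟩
    · rw [← e]; exact nWr h hir hl hgW
    · rw [← e]
      by_cases hij : i = j
      · subst hij; exact hlA
      · refine keep h hij hl (hWV hgW) (hgA j ?_)
        rcases hj with hj | hj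
        · rcases Finset.mem_insert.1 hj with hj | hj
          · exact absurd hj.symm hij
          · exact Or.inl hj
        · exact Or.inr hj

/-- `⟨W i : i ∈ r⟩ ∩ ZJ = ⟨Z i : i ∈ r⟩` -/
theorem W_inf_ZJ [Finite ι] : ∀ s : Finset ι, ∀ x, x ∈ (⨆ i ∈ s, W i) → x ∈ ZJ → x ∈ ⨆ i ∈ s, Z i := by
  classical
  intro s
  induction s using Finset.induction_on with
  | empty =>
    intro x hx _
    simp only [Finset.notMem_empty, iSup_false, iSup_bot] at hx ⊢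
    exact hx
  | insert i s hi ih =>
    intro x hx hxJ
    have e1 : (⨆ j ∈ insert i s, W j) = W i ⊔ ⨆ j ∈ s, W j := Finset.iSup_insert _ _ _
    have e2 : (⨆ j ∈ insert i s, Z j) = Z i ⊔ ⨆ j ∈ s, Z j := Finset.iSup_insert _ _ _
    rw [e1] at hx
    rw [e2]
    have hsC : (⨆ j ∈ s, W j) ≤ C i := iSup₂_le fun j hj => h.WjC i j (fun e => hi (e ▸ hj))
    obtain ⟨w, hw, y, hy, rfl⟩ := mem_sup_comm (fun v hv z hz => h.Vc (h.WV i hv) (h.CV i (hsC hz))) hx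
    obtain ⟨z, hz, c, hc, hcJ, e⟩ := h.split_ZJ i hxJ
    obtain ⟨h1, h2⟩ := h.uniq hw ((h.blk i).ZV hz) (hsC hy) hc e
    refine mul_mem (mem_sup_left (by rw [h1]; exact hz)) (mem_sup_right (ih y hy (by rw [h2]; exact hcJ)))

/-- **(m3)** -/
theorem conj_ZJ [Finite G] [Finite ι] (r : Set ι) {x : G} (hx : x ∈ ⨆ i ∈ r, W i) :
    ∃ g ∈ ⨆ i ∈ r, L i, g * x * g⁻¹ ∈ ⨆ i ∈ r, Z i := by
  classical
  have hfin : r.Finite := Set.toFinite r
  obtain ⟨g, hg, hgW, hgA⟩ := conj_aux h r hx hfin.toFinset fun i hi => by simpa using hi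
  refine ⟨g, hg, ?_⟩
  have hWV : (⨆ i ∈ r, W i) ≤ V := iSup₂_le fun i _ => h.WV i
  have h1 : g * x * g⁻¹ ∈ ZJ := h.mem_ZJ_of (hWV hgW) fun i => hgA i (by
    by_cases hi : i ∈ r
    · left; simpa using hi
    · right; exact hi)
  have e1 : ∀ U : ι → Subgroup G, (⨆ i ∈ r, U i) = ⨆ i ∈ hfin.toFinset, U i := by
    intro U
    simp only [Set.Finite.mem_toFinset]
  rw [e1] at hgW ⊢
  exact W_inf_ZJ h _ _ hgW h1

/-- `Z_J ≤ ⟨Z i⟩` -/
theorem ZJ_le_sup [Finite ι] : ZJ ≤ ⨆ i, Z i := by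
  classical
  have := Fintype.ofFinite ι
  intro x hx
  have h2 : x ∈ ⨆ i ∈ (Finset.univ : Finset ι), Z i := by
    refine W_inf_ZJ h _ x ?_ hx
    have h3 : x ∈ V := h.ZJV hx
    rw [h.V_eq] at h3
    have e : (⨆ i ∈ (Finset.univ : Finset ι), W i) = ⨆ i, W i := by simp
    rw [e]
    exact h3
  have e : (⨆ i ∈ (Finset.univ : Finset ι), Z i) = ⨆ i, Z i := by simp
  rwa [e] at h2

/-- an elementary abelian subgroup of `B` of order `m` centralises `W i` or `Z i ≤ ⟨x x^a⟩` -/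
theorem h2 [Finite G] {E : Subgroup G} (hE : E ≤ B) (hel : IsElementaryAbelian 2 E) (hcard : Nat.card E = m) (i : ι) :
    (∀ a ∈ E, ∀ x ∈ W i, a * x = x * a) ∨ Z i ≤ closure {y | ∃ x ∈ W i, ∃ a ∈ E, y = x * (a * x * a⁻¹)} := by
  by_cases h0 : ∀ a ∈ E, ∀ x ∈ W i, a * x = x * a
  · exact Or.inl h0
  right
  rcases (h.blk i).full h.max hE hel hcard with h1 | ⟨-, -, h5, -⟩
  · exact absurd h1 h0
  intro z hz
  push Not at h0
  obtain ⟨b, hb', v, hv, hne⟩ := h0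
  have hvZ : v ∉ Z i := fun hvZ => hne ((h.blk i).cZ b (hE hb') v hvZ)
  obtain ⟨R, h1, h2, -, h4⟩ := (h.blk i).toMd.relIndex_comm hE hv hvZ
  rw [← h5] at h4
  have h6 : Nat.card R = q := Nat.eq_of_mul_eq_mul_right Nat.card_pos h4
  have h7 : R = Z i := Subgroup.eq_of_le_of_card_ge h1 (by rw [h6, h.cardZ])
  rw [← h7] at hz
  obtain ⟨x, hx, e⟩ := h2 z hz
  refine subset_closure ⟨v, hv, x, hx, ?_⟩
  have hxv : x * v * x⁻¹ ∈ W i := (h.blk i).BV (hE hx) hv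
  have hv2 : v⁻¹ = v := by
    have h8 := SQ1.Bau.elem_sq (h.blk i).el v hv
    rw [pow_two] at h8
    exact inv_eq_of_mul_eq_one_left h8
  rw [e, hv2]
  exact (h.blk i).comm hxv hv

end fr

end Cfsg.Agent.Omega.OM.SwapV.Q.NegMod

end

-- merged: Cfsg.Agent.Mrg.Omega.OM.SwapV.Q.Neg
section

section


/-!
# (Om) for `q ≥ 4` over an abstract `V`: the frame at the stage `-1`

* `NegQ S V Q L W Z C A q` : `Uni.Fr` over `B = bau S`, `Z_J = zj S`, `V ≤ O₂(C_G(Z))`, `V` and `V^f` commute, `S` permutes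
  the triples `(W i, C i, Z i)`, coordinates per block;
* `NegQ.gr` : it is a ground frame `Gr` (`K = J(S)`, `B = bau S`, `Z_J = zj S`).
-/

set_option autoImplicit false
set_option linter.unusedSectionVars false

namespace Cfsg.Agent.Omega.OM.SwapV.Q

open Subgroup Cfsg Cfsg.Agent.ZN.ChoiceBase Cfsg.Agent.ZN.ChoiceSit
open Cfsg.Agent.ZN (jj zj bau zc zl o2)
open Cfsg.Agent.MinSimple.MinParabolic (IsMinPar)
open Cfsg.Agent.MinSimple.VModule (oddGen oddGen_le)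
open Cfsg.Agent.Omega.OM.LevD (LB K0)
open Cfsg.Agent.Omega.OM.Uni (Fr FB)
open Cfsg.Agent.Omega.OM.Swap.Fam (Fm BF fm_AA fm_best)

universe u

variable {G : Type u} [Group G] [Finite G]

/-- The frame at stage `-1` over an abstract module `V`, any `q`. -/
structure NegQ {ι : Type} (S : Sylow 2 G) (V Q : Subgroup G) (L W Z C A : ι → Subgroup G) (q : ℕ) : Prop where
  fr : Fr (bau (S : Subgroup G)) Q V (zj (S : Subgroup G)) L W Z C A q (mm (S : Subgroup G))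
  char2 : IsCharacteristicTwoType G
  low : V ≤ o2 (centralizer (zc (S : Subgroup G) : Set G))
  noff : ∀ T : Subgroup G, IsPGroup 2 T → bau (S : Subgroup G) ≤ T → ∀ f : G, cj f V ≤ T → V ≤ cj f T →
    ∀ x ∈ V, ∀ y ∈ V, x * (f * y * f⁻¹) = f * y * f⁻¹ * x
  perm : ∀ s ∈ (S : Subgroup G), ∀ i j, cj s (Z i) = Z j → cj s (W i) = W j ∧ cj s (C i) = C j
  co : ∀ i, ∃ (F : Type) (_ : Field F) (_ : Finite F) (_ : CharP F 2), Nat.card F = q ∧
    ∃ e : G → F × F, Cor F (S : Subgroup G) (bau (S : Subgroup G)) L W Z i e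

section line

variable {ι : Type} {S : Sylow 2 G} {V Q : Subgroup G} {L W Z C A : ι → Subgroup G} {q : ℕ}

/-- **(U1)** -/
theorem NegQ.norm [Finite ι] (h : NegQ S V Q L W Z C A q) {g : G}
    (hg : g ∈ normalizer (bau (S : Subgroup G) : Set G)) :
    cj g V = V ∧ ∀ i, ∃ j, cj g (Z i) = Z j ∧ cj g (W i) ≤ W j ⊔ zj (S : Subgroup G) := by
  have hgB := cj_eq_of_mem_normalizer hg
  have hVB : V ≤ bau (S : Subgroup G) := h.fr.VQ.trans h.fr.QB
  refine h.fr.norm_of hg fun w hw v hv => ?_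
  obtain ⟨y, hy, rfl⟩ := hw
  refine (h.noff _ (S.isPGroup'.to_le (bau_le _)) le_rfl g ?_ ?_ v hv y hy).symm
  · have h1 := cj_mono g hVB
    rwa [hgB] at h1
  · rw [hgB]
    exact hVB

theorem NegQ.norm_le [Finite ι] (h : NegQ S V Q L W Z C A q) :
    normalizer (bau (S : Subgroup G) : Set G) ≤ normalizer (V : Set G) := fun g hg => by
  rw [mem_normalizer_iff_cj]
  exact (h.norm hg).1

/-- The family of offenders: `AA F`. -/
theorem NegQ.fam (h : NegQ S V Q L W Z C A q) {X T F : Subgroup G}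
    (hp : PairV (bau (S : Subgroup G)) V (zj (S : Subgroup G)) X T F)
    (hZM : normalizer (zj (S : Subgroup G) : Set G) ≤ X) :
    ∃ 𝓐 : Set (Subgroup G),
      (∀ Λ : Subgroup G, IsElementaryAbelian 2 Λ → Λ ≤ F → F ≤ normalizer (Λ : Set G) →
        Λ ≤ NoFF.Basic.V V F → Fm F Λ 𝓐) ∧
      (∃ E ∈ 𝓐, E ≤ T ∧ ¬ E ≤ o2 F) ∧
      ∀ E ∈ 𝓐, E ≤ T → E ≤ bau (S : Subgroup G) ∧ ∀ i, (∀ a ∈ E, ∀ x ∈ W i, a * x = x * a) ∨
        Z i ≤ closure {y | ∃ x ∈ W i, ∃ a ∈ E, y = x * (a * x * a⁻¹)} := by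
  have hT2 := hp.syl.2.1
  have h0T : jj (S : Subgroup G) ≤ T := (jj_le_bau _).trans hp.BT
  have hjT : jj T = jj (S : Subgroup G) := MinSimple.EmptyTI.jj_eq S hT2 h0T
  have hJ : ¬ jj (S : Subgroup G) ≤ o2 F := fun hle =>
    hp.nM ((le_normalizer_o2 F).trans (((LB.neg S).nrm _ (isPGroup_o2 F) hle).trans hZM))
  refine ⟨AA F, fun Λ hΛ hΛF hn _ => fm_AA hΛ hΛF hn, ?_, fun E hE hET => ?_⟩
  · by_contra hcon
    push Not at hcon
    apply hJ
    rw [← hjT, Cfsg.Agent.ZN.ChoiceBase.jj_eq]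
    exact sSup_le fun E hE => hcon E (Swap.AA_of_syl hp.syl hE) hE.2.1
  · have hET' := Swap.AA_of_le hE hET hp.syl.1
    have h1 : E ≤ jj (S : Subgroup G) := by
      have := le_jj hET'
      rwa [hjT] at this
    have h2 : Nat.card E = mm (S : Subgroup G) := by
      rw [← mm_bau (S : Subgroup G), ← LemmaK.Main.bau_eq S hT2 hp.BT, mm_bau, mm_eq hET']
    exact ⟨h1.trans (jj_le_bau _), fun i => NegMod.h2 h.fr (h1.trans (jj_le_bau _)) hET'.1 h2 i⟩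

/-- **The frame at stage `-1` is a ground frame.** -/
theorem NegQ.gr [Finite ι] (h : NegQ S V Q L W Z C A q) :
    Gr S (jj (S : Subgroup G)) (bau (S : Subgroup G)) V (zj (S : Subgroup G)) L W Z C A (fun _ => q) where
  lb := LB.neg S
  wc := UniPlus.wc_bau S
  char2 := h.char2
  VB := h.fr.VQ.trans h.fr.QB
  el := h.fr.el
  ZJV := h.fr.ZJV
  WV := h.fr.WV
  ZW := fun i => (h.fr.blk i).ZV
  Zle := h.fr.Z_le
  cardZ := h.fr.cardZ
  cardW := fun i => by rw [(h.fr.blk i).card, h.fr.cardZ i]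
  dir := h.fr.dir
  C0 := h.fr.C0
  WjC := h.fr.WjC
  sup := NegMod.ZJ_le_sup h.fr
  BL := fun i => (h.fr.blk i).BL
  LC := h.fr.LC
  AB := h.fr.AB
  AC := h.fr.AC
  root := fun i v hv hvZ z hz => NegMod.root h.fr hv hvZ hz
  conjZ := fun r x hx => NegMod.conj_ZJ h.fr r hx
  norm := fun g hg => by
    have h1 := h.norm hg
    exact ⟨h1.1, fun i => by obtain ⟨j, hj, -⟩ := h1.2 i; exact ⟨j, hj⟩⟩
  perm := h.perm
  low := h.low
  noff := h.noff
  fixPt := fun _ _ hY => inf_le_right.trans (LevD.fixPt_neg S hY.syl ((jj_le_bau _).trans hY.BT) hY.min hY.nK hY.cz)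
  fam := fun X T F hp _ _ hZM => h.fam hp hZM
  co := h.co

end line

end Cfsg.Agent.Omega.OM.SwapV.Q

end

section


/-!
# (Om) for `q ≥ 4` over an abstract `V`, stage `-1`: the groups `Y i = C_G(Z j : j ≠ i)`

* `NegQ.bfr` : the frame `Var.Bfr` (constant `q`), at least two blocks;
* `NegQ.K0_le` : `⟨C_G(Z_J), all blocks over B⟩ ≤ ⟨Y i⟩`;
* `NegQ.bmv` : `BMV (J(S)) B X` for `X ≥ ⟨Y i⟩, N_G(B)`.
-/

set_option autoImplicit false
set_option linter.unusedSectionVars false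

namespace Cfsg.Agent.Omega.OM.SwapV.Q

open Subgroup Cfsg Cfsg.Agent.ZN.ChoiceBase Cfsg.Agent.ZN.ChoiceSit
open Cfsg.Agent.ZN (jj zj bau zc zl o2)
open Cfsg.Agent.MinSimple.MinParabolic (IsMinPar)
open Cfsg.Agent.Omega.OM.LevD (LB)
open Cfsg.Agent.Omega.OM.Uni (Fr FB)
open Cfsg.Agent.Omega.OM.Var (Bfr YY EE YY_le_EE)
open Cfsg.Agent.Omega.OM.BlkGen (FBlk)

universe u

variable {G : Type u} [Group G]

/-- the frame `Var.Fr` with constant `q` -/
theorem var_of_fr {ι : Type*} {B Q V ZJ : Subgroup G} {L W Z C A : ι → Subgroup G} {q m : ℕ}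
    (h : Fr B Q V ZJ L W Z C A q m) : Var.Fr B Q V ZJ L W Z C A (fun _ => q) m where
  max := h.max
  blk := h.blk
  cardZ := h.cardZ
  QB := h.QB
  VQ := h.VQ
  el := h.el
  mem_Q := h.mem_Q
  zcQ := h.zcQ
  mem_ZJ := h.mem_ZJ
  LV := h.LV
  LQ := h.LQ
  WV := h.WV
  CV := h.CV
  WC := h.WC
  dir := h.dir
  C0 := h.C0
  WjC := h.WjC
  BC := h.BC
  LC := h.LC
  AB := h.AB
  Ael := h.Ael
  Am := h.Am
  Ane := h.Ane
  AC := h.AC

section line

variable [Finite G] {ι : Type} [Finite ι] {S : Sylow 2 G} {V Q : Subgroup G} {L W Z C A : ι → Subgroup G} {q : ℕ}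

/-- the frame over the Baumann group -/
theorem NegQ.bfr [Nonempty ι] (h : NegQ S V Q L W Z C A q) (hq : 4 ≤ q) (h2 : ∀ i : ι, ∃ j, j ≠ i) :
    Bfr S Q V L W Z C A (fun _ => q) (mm (S : Subgroup G)) where
  char2 := h.char2
  fr := var_of_fr h.fr
  com := by
    rintro g hg _ ⟨y, hy, rfl⟩ v hv
    have hgB := cj_eq_of_mem_normalizer hg
    have hVB : V ≤ bau (S : Subgroup G) := h.fr.VQ.trans h.fr.QB
    refine (h.noff _ (S.isPGroup'.to_le (bau_le _)) le_rfl g ?_ ?_ v hv y hy).symm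
    · have h1 := cj_mono g hVB
      rwa [hgB] at h1
    · rw [hgB]
      exact hVB
  two := h2
  four := by
    rintro ⟨h1, -⟩
    have := h1 (Classical.arbitrary ι)
    omega

/-- `⟨C_G(Z_J), blocks⟩ ≤ ⟨Y i⟩` -/
theorem NegQ.K0_le [Nonempty ι] (h : NegQ S V Q L W Z C A q) (hq : 4 ≤ q) (h2 : ∀ i : ι, ∃ j, j ≠ i) :
    Dich.K0 (S : Subgroup G) (FBlk (S : Subgroup G)) ≤ EE Z := (h.bfr hq h2).K0_le

/-- the minimal parabolics which move `Ω₁Z(T)` -/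
theorem NegQ.bmv [Nonempty ι] (h : NegQ S V Q L W Z C A q) (hq : 4 ≤ q) (h2 : ∀ i : ι, ∃ j, j ≠ i) {X : Subgroup G}
    (hE : EE Z ≤ X) (hN : normalizer (bau (S : Subgroup G) : Set G) ≤ X) :
    BMV (jj (S : Subgroup G)) (bau (S : Subgroup G)) X := by
  intro T Y hT hB hY hc _ hZ
  refine ((h.bfr hq h2).par_le FF.Glob.ffthm hT hB hY hc hZ).trans (sup_le hE ?_)
  refine (LB.neg S).norm_zj_le.trans (sup_le ?_ hN)
  exact (((h.bfr hq h2).cent_le (Classical.arbitrary ι)).trans (YY_le_EE Z _)).trans hE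

end line

end Cfsg.Agent.Omega.OM.SwapV.Q

end

section


/-!
# NO-3L, box R, `q ≥ 4`: the ground frames `LnQ` (levels) and `NegQ` (stage `-1`) from `DataLow`

`V = ⟨V_P : P ∈ PP⟩`, `PP ⊆ P*(S)` (for one class: `PP = {P}`, `V* = zl S P`).

* `lnQ_of_data` : `LnQ` from `FrL`, `lev S n ≤ Q`, `perm`, `co`;
* `negQ_of_data` : `NegQ` from `Uni.Fr`, `perm`, `co`;
* `perm_of` : `perm` from: `S` permutes the blocks and the lines, `C i` = the product of the other blocks.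
-/

set_option autoImplicit false
set_option linter.unusedSectionVars false

namespace Cfsg.Agent.Omega.NOThreeL.RRed.BFr.DataQ

open Subgroup Cfsg Cfsg.Agent.Omega.MinPar Cfsg.Agent.Omega.Frame Cfsg.Agent.ZN.ChoiceBase Cfsg.Agent.ZN.ChoiceSit
open Cfsg.Agent.ZN (zc zl o2 zj bau)
open Cfsg.Agent.Omega.OM.SwapV.Q
open Cfsg.Agent.Omega.NO3S.Level (lev)
open Cfsg.Agent.Omega.OM.SwapL (ZL BL lb)
open Cfsg.Agent.Omega.OM.Lev.Uni (FrL)
open Cfsg.Agent.Omega.Node.NO3L (DataLow)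
open Cfsg.Agent.Omega.NOThreeL.RRed.BFr.Noff (low comm_S comm_T)

universe u

variable {G : Type u} [Group G] [Finite G] {S : Sylow 2 G} {V : Subgroup G} {PP : Set (Subgroup G)}

/-- **The ground frame at the levels in box R, any `q`.** -/
theorem lnQ_of_data {ι : Type} [Finite ι] {Q : Subgroup G} {n : ℕ} {L W Z C A : ι → Subgroup G} {q : ℕ}
    (hG : IsCharacteristicTwoType G) (D : DataLow (S : Subgroup G)) (hPP : ∀ P ∈ PP, IsParS (S : Subgroup G) P)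
    (hV : V = ⨆ P ∈ PP, zl (S : Subgroup G) P)
    (fr : FrL (BL (S : Subgroup G) n) Q V (zc (lev (S : Subgroup G) n)) (ZL (S : Subgroup G) n) L W Z C A q)
    (levQ : lev (S : Subgroup G) n ≤ Q)
    (perm : ∀ s ∈ (S : Subgroup G), ∀ i j, cj s (Z i) = Z j → cj s (W i) = W j ∧ cj s (C i) = C j)
    (co : ∀ i, ∃ (F : Type) (_ : Field F) (_ : Finite F) (_ : CharP F 2), Nat.card F = q ∧
      ∃ e : G → F × F, Cor F (S : Subgroup G) (BL (S : Subgroup G) n) L W Z i e) : LnQ S V Q n L W Z C A q where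
  fr := fr
  levQ := levQ
  char2 := hG
  low := low D hPP hV
  noff := fun T hT hB f h1 h2 x hx y hy => by
    have hN : normalizer (BL (S : Subgroup G) n : Set G) ≤ normalizer (V : Set G) := fun g hg => by
      rw [mem_normalizer_iff_cj]
      exact (fr.norm_of hg (NO3S.Level.normalizer_le_zc _ (OM.SwapL.norm_lev S (by omega) hg))).1
    have h3 := comm_T D hPP hV (OM.SwapL.wc S n) (lb S n).BS hN hT hB h1 h2 hx
    exact (mem_centralizer_iff.1 h3 _ ⟨y, hy, rfl⟩).symm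
  perm := perm
  co := co

/-- **The ground frame at stage `-1` in box R, any `q`.** -/
theorem negQ_of_data {ι : Type} [Finite ι] {Q : Subgroup G} {L W Z C A : ι → Subgroup G} {q : ℕ}
    (hG : IsCharacteristicTwoType G) (D : DataLow (S : Subgroup G))
    (hPP : ∀ P ∈ PP, IsParS (S : Subgroup G) P) (hV : V = ⨆ P ∈ PP, zl (S : Subgroup G) P)
    (fr : Cfsg.Agent.Omega.OM.Uni.Fr (bau (S : Subgroup G)) Q V (zj (S : Subgroup G)) L W Z C A q
      (mm (S : Subgroup G)))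
    (perm : ∀ s ∈ (S : Subgroup G), ∀ i j, cj s (Z i) = Z j → cj s (W i) = W j ∧ cj s (C i) = C j)
    (co : ∀ i, ∃ (F : Type) (_ : Field F) (_ : Finite F) (_ : CharP F 2), Nat.card F = q ∧
      ∃ e : G → F × F, Cor F (S : Subgroup G) (bau (S : Subgroup G)) L W Z i e) : NegQ S V Q L W Z C A q where
  fr := fr
  char2 := hG
  low := low D hPP hV
  noff := fun T hT hB g h1 h2 x hx y hy => by
    have hVB : V ≤ bau (S : Subgroup G) := fr.VQ.trans fr.QB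
    have hN : normalizer (bau (S : Subgroup G) : Set G) ≤ normalizer (V : Set G) := fun g hg => by
      have hgB := cj_eq_of_mem_normalizer hg
      rw [mem_normalizer_iff_cj]
      refine (fr.norm_of hg fun w hw v hv => ?_).1
      have k1 : cj g V ≤ (S : Subgroup G) := by
        have := cj_mono g hVB
        rw [hgB] at this
        exact this.trans (bau_le _)
      have k2 : V ≤ cj g (S : Subgroup G) := by
        have := cj_mono g (bau_le (S : Subgroup G))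
        rw [hgB] at this
        exact hVB.trans this
      exact mem_centralizer_iff.1 (comm_S D hPP hV k1 k2 hv) w hw
    have h3 := comm_T D hPP hV (OM.UniPlus.wc_bau S) (bau_le _) hN hT hB h1 h2 hx
    exact (mem_centralizer_iff.1 h3 _ ⟨y, hy, rfl⟩).symm
  perm := perm
  co := co

omit [Finite G] in
/-- **`perm`**: `S` permutes the blocks `W i` and the lines `Z i ≠ 1`; `C i` is the product of the other blocks. -/
theorem perm_of {ι : Type*} {S₀ : Subgroup G} {W Z C : ι → Subgroup G} (hZW : ∀ i, Z i ≤ W i) (hZ : ∀ i, Z i ≠ ⊥)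
    (hdir : ∀ i j, i ≠ j → W i ⊓ W j = ⊥) (hC : ∀ i, C i = ⨆ j : {j : ι // j ≠ i}, W j)
    (hW : ∀ s ∈ S₀, ∀ i, ∃ j, cj s (W i) = W j) :
    ∀ s ∈ S₀, ∀ i j, cj s (Z i) = Z j → cj s (W i) = W j ∧ cj s (C i) = C j := by
  intro s hs i j hij
  -- `s` maps `W i` to `W j`
  have key : ∀ a b, (∃ x ∈ W a, x ≠ 1 ∧ s * x * s⁻¹ ∈ W b) → cj s (W a) = W b := by
    rintro a b ⟨x, hx, hx1, hxb⟩
    obtain ⟨c, hc⟩ := hW s hs a
    have h1 : s * x * s⁻¹ ∈ W c := by rw [← hc]; exact ⟨x, hx, rfl⟩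
    by_cases hbc : b = c
    · rw [hbc]; exact hc
    · exfalso
      have h2 : s * x * s⁻¹ ∈ W b ⊓ W c := ⟨hxb, h1⟩
      rw [hdir b c hbc, mem_bot] at h2
      apply hx1
      have : x = s⁻¹ * (s * x * s⁻¹) * s := by group
      rw [this, h2]; group
  have hneZ : ∀ a, ∃ x ∈ Z a, x ≠ 1 := fun a => by
    obtain ⟨z, hz⟩ := (Subgroup.ne_bot_iff_exists_ne_one (H := Z a)).1 (hZ a)
    exact ⟨z, z.2, fun e => hz (Subtype.ext e)⟩
  have hWij : cj s (W i) = W j := by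
    apply key
    obtain ⟨z, hz, hz1⟩ := hneZ i
    refine ⟨z, hZW i hz, hz1, hZW j ?_⟩
    rw [← hij]; exact ⟨z, hz, rfl⟩
  refine ⟨hWij, ?_⟩
  have hinj : ∀ {a b c : ι}, cj s (W a) = W c → cj s (W b) = W c → a = b := by
    intro a b c h1 h2
    by_contra hab
    obtain ⟨x, hx, hx1⟩ := hneZ a
    have h3 : x ∈ W b := by
      have h4 : s * x * s⁻¹ ∈ cj s (W b) := by rw [h2, ← h1]; exact ⟨x, hZW a hx, rfl⟩
      obtain ⟨y, hy, e⟩ := h4
      have h5 : x = y := by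
        have e' : s * y * s⁻¹ = s * x * s⁻¹ := e
        exact (mul_left_cancel (mul_right_cancel e')).symm
      rw [h5]; exact hy
    have h6 : x ∈ W a ⊓ W b := ⟨hZW a hx, h3⟩
    rw [hdir a b hab, mem_bot] at h6
    exact hx1 h6
  have e1 : cj s (C i) = ⨆ k : {k : ι // k ≠ i}, cj s (W k) := by
    rw [hC i]
    exact Subgroup.map_iSup _ _
  rw [e1, hC j]
  apply le_antisymm
  · refine iSup_le fun k => ?_
    obtain ⟨c, hc⟩ := hW s hs k
    have hcj : c ≠ j := fun e => k.2 (hinj (by rw [hc, e]) hWij)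
    rw [hc]
    exact le_iSup (fun k : {k : ι // k ≠ j} => W k) ⟨c, hcj⟩
  · refine iSup_le fun k => ?_
    obtain ⟨c, hc⟩ := hW s⁻¹ (inv_mem hs) k
    have hc' : cj s (W c) = W k := by rw [← hc, cj_cj_inv]
    have hci : c ≠ i := by
      rintro rfl
      rw [hWij] at hc'
      obtain ⟨z, hz, hz1⟩ := hneZ j
      have h6 : z ∈ W j ⊓ W k := ⟨hZW j hz, by rw [← hc']; exact hZW j hz⟩
      rw [hdir j k (Ne.symm k.2), mem_bot] at h6
      exact hz1 h6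
    rw [← hc']
    exact le_iSup (fun k : {k : ι // k ≠ i} => cj s (W k)) ⟨c, hci⟩

end Cfsg.Agent.Omega.NOThreeL.RRed.BFr.DataQ

end

section


/-!
# (Om) for `q ≥ 4` over an abstract `V`: the frames `LnQ`, `NegQ` from one natural `P ∈ P*(S)` (no `HypN`)

`P ∈ P*(S)`, `C_Z(P) = 1`, `V_P` a sum of `k` natural `SL₂(F)`-modules, no mutual pairs, all lines low (`DataLow S`):

* `cor_of_md` : the coordinates `Cor` from `FourF.MD`;
* `lnQ_of` : stage `n ≥ 0` (`lev S n ≤ O₂(P)`, `lev S (n + 1) ≰ O₂(P)`);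
* `negQ_of` : stage `-1` (`J(S) ≰ O₂(P)`).
-/

set_option autoImplicit false
set_option linter.unusedSectionVars false

namespace Cfsg.Agent.Omega.OM.SwapV.Q.OfNat

open Subgroup Cfsg Cfsg.Agent.ZN Cfsg.Agent.ZN.ChoiceBase Cfsg.Agent.ZN.ChoiceSit Cfsg.Agent.Omega.MinPar
open Cfsg.Agent.Omega.Frame
open Cfsg.Agent.Omega.NatPair (ap ap_zero' ap_one' ap_one ap_mul ext2 exists_ap)
open Cfsg.Agent.Lib.SL2Mat
open Cfsg.Agent.Omega.FFThm (NatK ActsSL NatKM)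
open Cfsg.Agent.Omega.FrameFF (cv)
open Cfsg.Agent.Omega.NO3S.OneLine (NatC)
open Cfsg.Agent.Omega.NO3S.Level (lev Lev lev_isLev)
open Cfsg.Agent.Omega.OM.SwapL (ZL BL lb wc norm_lev)
open Cfsg.Agent.Omega.OM.FourF (Act MD dl dl_ap' dl_zero' dl_one')
open Cfsg.Agent.Omega.OM.YThm (Cd Cn Nm rs)
open Cfsg.Agent.Omega.OM.Lev.Uni (FrL)
open Cfsg.Agent.Omega.Node.NO3L (DataLow)
open Cfsg.Agent.Omega.NOThreeL.RRed.BFr.Noff (comm_S comm_T)

universe u

section gen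

variable {G : Type*} [Group G] {F : Type} [Field F] {S P V D : Subgroup G} {k : ℕ} (N : NatK F S P V D k)

/-- `g` acts on the coordinates as `A` -/
def ActN (g : G) (A : Fin k → Matrix.SpecialLinearGroup (Fin 2) F) : Prop :=
  ∀ v ∈ V, ∀ i, N.e (g * v * g⁻¹) i = ap (A i) (N.e v i)

variable {N} {B ZJ : Subgroup G} {L W Z C : Fin k → Subgroup G} {z₀ f₀ : Fin k → F}

theorem one_of (m : MD N B ZJ W Z z₀ f₀) {i : Fin k} {A : Matrix.SpecialLinearGroup (Fin 2) F} {g : G} (hg : g ∈ P)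
    (hgA : ActN N g (Function.update 1 i A)) : g ∈ normalizer (W i : Set G) ∧
    (∀ w ∈ W i, N.e (g * w * g⁻¹) i = ap A (N.e w i)) ∧ ∀ j, j ≠ i → ∀ w ∈ W j, g * w = w * g := by
  classical
  have hgV : ∀ v ∈ V, g * v * g⁻¹ ∈ V := fun v hv => (mem_normalizer_iff.1 (m.PV hg) v).1 hv
  have hgV' : ∀ v, g * v * g⁻¹ ∈ V → v ∈ V := fun v hv => (mem_normalizer_iff.1 (m.PV hg) v).2 hv
  have hz0 : ∀ B : Matrix.SpecialLinearGroup (Fin 2) F, ap B (0 : Fin 2 → F) = 0 := by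
    intro B
    apply ext2
    · rw [ap_zero']; simp
    · rw [ap_one']; simp
  refine ⟨?_, fun w hw => ?_, fun j hj w hw => ?_⟩
  · rw [mem_normalizer_iff]
    intro v
    rw [m.mem_W, m.mem_W]
    constructor
    · rintro ⟨h1, h2⟩
      refine ⟨hgV v h1, fun j hj => ?_⟩
      rw [hgA v h1, h2 j hj, hz0]
    · rintro ⟨h1, h2⟩
      have h3 := hgV' v h1
      refine ⟨h3, fun j hj => ?_⟩
      have h4 := h2 j hj
      rw [hgA v h3, Function.update_of_ne hj, Pi.one_apply, ap_one] at h4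
      exact h4
  · rw [hgA w (m.WV hw), Function.update_self]
  · have h1 := m.WV hw
    have h2 : g * w * g⁻¹ = w := by
      refine m.inj (hgV w h1) h1 ?_
      funext l
      rw [hgA w h1]
      by_cases hl : l = i
      · subst hl
        rw [((m.mem_W j w).1 hw).2 l (Ne.symm hj), hz0]
      · rw [Function.update_of_ne hl, Pi.one_apply, ap_one]
    exact mul_inv_eq_iff_eq_mul.1 h2

theorem up_up [CharP F 2] (c : F) (x : Fin 2 → F) : ap (up c) (ap (up c) x) = x := by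
  rw [← ap_mul, up_mul, CharTwo.add_self_eq_zero, up_zero, ap_one]

/-- elements of `L i` which act on the `i`-th block only -/
theorem exists_pure [CharP F 2] (m : MD N B ZJ W Z z₀ f₀) (BLi : ∀ i, B ≤ L i)
    (LX : ∀ i, ∀ l ∈ L i, l ∈ P ∧ ∃ A, ActN N l A ∧ ∀ j, j ≠ i → ∃ c, A j = up c)
    (acts : ∀ i A, ∃ l ∈ L i, ∃ A', ActN N l A' ∧ A' i = A)
    (hup : ∀ c : Fin k → F, ∃ b ∈ B, ActN N b fun i => up (c i)) (i : Fin k)
    (A : Matrix.SpecialLinearGroup (Fin 2) F) : ∃ g ∈ L i, ActN N g (Function.update 1 i A) := by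
  classical
  obtain ⟨l, hl, A', hA', hAi⟩ := acts i A
  obtain ⟨hlP, A'', hA'', hup''⟩ := LX i l hl
  choose c hc using hup''
  obtain ⟨b, hb, hbA⟩ := hup fun j => if h : j = i then 0 else c j h
  refine ⟨b * l, mul_mem (BLi i hb) hl, fun v hv j => ?_⟩
  have hlv : l * v * l⁻¹ ∈ V := (mem_normalizer_iff.1 (m.PV hlP) v).1 hv
  have e1 : b * l * v * (b * l)⁻¹ = b * (l * v * l⁻¹) * b⁻¹ := by group
  rw [e1, hbA _ hlv j]
  by_cases hj : j = i
  · subst hj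
    beta_reduce
    rw [dif_pos rfl, up_zero, ap_one, hA' v hv j, hAi, Function.update_self]
  · beta_reduce
    rw [dif_neg hj, hA'' v hv j, hc j hj, up_up, Function.update_of_ne hj, Pi.one_apply, ap_one]

/-- **The coordinates `Cor`.** -/
theorem cor_of_md [Finite F] [CharP F 2] (m : MD N B ZJ W Z z₀ f₀) (i : Fin k)
    (BLi : ∀ i, B ≤ L i) (LX : ∀ i, ∀ l ∈ L i, l ∈ P ∧ ∃ A, ActN N l A ∧ ∀ j, j ≠ i → ∃ c, A j = up c)
    (acts : ∀ i A, ∃ l ∈ L i, ∃ A', ActN N l A' ∧ A' i = A)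
    (hup : ∀ c : Fin k → F, ∃ b ∈ B, ActN N b fun i => up (c i)) :
    Cor F S B L W Z i (MD.co N z₀ f₀ i) where
  mul := fun v hv w hw => m.co_mul (m.WV hv) (m.WV hw)
  inj := fun v hv w hw => m.co_inj hv hw
  surj := m.co_surj i
  memZ := fun v => m.co_Z
  act := fun t ht hZ => m.act ht hZ
  full := m.full i
  sl := fun a b c d hd => by
    obtain ⟨A, hA⟩ := dl_ap' (m.hz i) (m.hf i) (Cfsg.Agent.Lib.SL2Mat.mk a b c d hd)
    obtain ⟨g, hg, hgA⟩ := exists_pure m BLi LX acts hup i A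
    obtain ⟨h1, h2, h3⟩ := one_of m (LX i g hg).1 hgA
    refine ⟨g, hg, h1, fun w hw => ?_, h3⟩
    have h4 := hA (N.e w i)
    rw [← h2 w hw] at h4
    have h5 := congrFun h4 0
    have h6 := congrFun h4 1
    rw [dl_zero', ap_zero', mk_00, mk_01] at h5
    rw [dl_one', ap_one', mk_10, mk_11] at h6
    ext
    · rw [MD.co_fst]; exact h5
    · rw [MD.co_snd]; exact h6

/-- `P` permutes the pairs `(W i, C i)` -/
theorem perm_WC (hVn : ∀ g ∈ P, ∀ v ∈ V, g * v * g⁻¹ ∈ V) (mem_W : ∀ i v, v ∈ W i ↔ v ∈ V ∧ ∀ j, j ≠ i → N.e v j = 0)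
    (mem_C : ∀ i v, v ∈ C i ↔ v ∈ V ∧ N.e v i = 0) {g : G} (hg : g ∈ P) :
    ∃ σ : Equiv.Perm (Fin k), ∀ i, cj g (W i) = W (σ i) ∧ cj g (C i) = C (σ i) := by
  obtain ⟨σ, hσ⟩ := N.perm g hg
  refine ⟨σ, fun i => ?_⟩
  have hgv : ∀ x ∈ V, g⁻¹ * x * g ∈ V := by
    intro x hx
    have := hVn g⁻¹ (inv_mem hg) x hx
    rwa [inv_inv] at this
  have e0 : ∀ x : G, g * (g⁻¹ * x * g) * g⁻¹ = x := fun x => by group
  constructor
  · ext x
    rw [mem_cj, mem_W, mem_W]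
    constructor
    · rintro ⟨hx, hx'⟩
      have hxV : x ∈ V := by
        have := hVn g hg _ hx
        rwa [e0] at this
      refine ⟨hxV, fun j hj => ?_⟩
      have h1 := (hσ _ hx (σ.symm j)).2 (hx' _ fun e => hj (by rw [← e, Equiv.apply_symm_apply]))
      rwa [Equiv.apply_symm_apply, e0] at h1
    · rintro ⟨hx, hx'⟩
      refine ⟨hgv x hx, fun j hj => ?_⟩
      refine (hσ _ (hgv x hx) j).1 ?_
      rw [e0]
      exact hx' _ fun e => hj (σ.injective e)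
  · ext x
    rw [mem_cj, mem_C, mem_C]
    constructor
    · rintro ⟨hx, hx'⟩
      have hxV : x ∈ V := by
        have := hVn g hg _ hx
        rwa [e0] at this
      have h1 := (hσ _ hx i).2 hx'
      rw [e0] at h1
      exact ⟨hxV, h1⟩
    · rintro ⟨hx, hx'⟩
      refine ⟨hgv x hx, (hσ _ (hgv x hx) i).1 ?_⟩
      rw [e0]
      exact hx'

/-- the pairs with the lines -/
theorem perm_of (hVn : ∀ g ∈ P, ∀ v ∈ V, g * v * g⁻¹ ∈ V) (mem_W : ∀ i v, v ∈ W i ↔ v ∈ V ∧ ∀ j, j ≠ i → N.e v j = 0)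
    (mem_C : ∀ i v, v ∈ C i ↔ v ∈ V ∧ N.e v i = 0) (mem_Z : ∀ i v, v ∈ Z i ↔ v ∈ W i ∧ N.e v i 1 = 0) {g : G}
    (hg : g ∈ P) {i j : Fin k} (hZ : cj g (Z i) = Z j) : cj g (W i) = W j ∧ cj g (C i) = C j := by
  classical
  obtain ⟨σ, hσ⟩ := perm_WC hVn mem_W mem_C hg
  suffices h : σ i = j by
    rw [← h]; exact hσ i
  by_contra hne
  obtain ⟨v, hv, e⟩ := N.surj (Function.update 0 j ![1, 0])
  have hvW : v ∈ W j := (mem_W j v).2 ⟨hv, fun l hl => by rw [e, Function.update_of_ne hl]; rfl⟩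
  have hvZ : v ∈ Z j := (mem_Z j v).2 ⟨hvW, by rw [e, Function.update_self]; rfl⟩
  have h1 : v ∈ W (σ i) := by
    rw [← (hσ i).1]
    rw [← hZ] at hvZ
    exact cj_mono g (fun x hx => ((mem_Z i x).1 hx).1) hvZ
  have h2 := ((mem_W _ v).1 h1).2 j (Ne.symm hne)
  rw [e, Function.update_self] at h2
  have := congrFun h2 0
  simp at this

end gen

section lev

variable {G : Type u} [Group G] [Finite G] {S : Sylow 2 G} {P : Subgroup G} {F : Type} [Field F] [Finite F] [CharP F 2]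
  {k : ℕ}

theorem norm_V_of_fr {ι : Type*} [Finite ι] {n : ℕ} {Q V : Subgroup G} {L W Z C A : ι → Subgroup G} {q : ℕ}
    (fr : FrL (BL (S : Subgroup G) n) Q V (zc (lev (S : Subgroup G) n)) (ZL (S : Subgroup G) n) L W Z C A q) :
    normalizer (BL (S : Subgroup G) n : Set G) ≤ normalizer (V : Set G) := fun g hg => by
  rw [mem_normalizer_iff_cj]
  exact (fr.norm_of hg (NO3S.Level.normalizer_le_zc _ (norm_lev S (by omega) hg))).1

/-- **The frame at stage `n ≥ 0`.** -/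
theorem lnQ_of (hG : IsCharacteristicTwoType G) (D : DataLow (S : Subgroup G)) (hP : IsParS (S : Subgroup G) P)
    (hcen : zc (S : Subgroup G) ⊓ centralizer (P : Set G) = ⊥) {n : ℕ} (hn : lev (S : Subgroup G) n ≤ o2 P)
    (hn1 : ¬ lev (S : Subgroup G) (n + 1) ≤ o2 P) (hk0 : 0 < k)
    (N : NatKM F (S : Subgroup G) P (zl (S : Subgroup G) P) (cv (S : Subgroup G) P) k) :
    ∃ L W Z C A : Fin k → Subgroup G, LnQ S (zl (S : Subgroup G) P) (o2 P) n L W Z C A (Nat.card F) ∧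
      (∀ i, L i ≤ P) ∧ (∀ i v, v ∈ W i ↔ v ∈ zl (S : Subgroup G) P ∧ ∀ j, j ≠ i → N.e v j = 0) ∧
      (∀ i v, v ∈ Z i ↔ v ∈ W i ∧ N.e v i 1 = 0) ∧ ∀ i v, v ∈ C i ↔ v ∈ zl (S : Subgroup G) P ∧ N.e v i = 0 := by
  classical
  have hL := lev_isLev (S : Subgroup G) n
  have hJ := NO3S.exists_BO hG hP hn hn1
  obtain ⟨E, -⟩ := NO3S.OneLine.exa_lev FF.Glob.ffthmM hG hP hL hn hcen hJ
  have hZJ : ∀ v, v ∈ ZL (S : Subgroup G) n ↔ v ∈ zl (S : Subgroup G) P ∧ ∀ i, N.e v i 1 = 0 := by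
    intro v
    have h1 := E.cent_nat N hk0 (x := v)
    have h2 : ZL (S : Subgroup G) n = zc (NO3S.Level.nxt (S : Subgroup G) (lev (S : Subgroup G) n)) := rfl
    rw [h2, NO3S.OneLine.zc_nxt_eq hL]
    exact h1
  have H : Lev.Nat.Hy (Lev.Exa.natM E N hk0) (BL (S : Subgroup G) n) (ZL (S : Subgroup G) n) :=
    Lev.Exa.hy_of E N hk0 rfl hZJ (wc S n) (Lev.Wc.S_norm_Lev hL.next)
  set M := Lev.Exa.natM E N hk0 with hM
  have hMe : M.nat = N.toNatK := rfl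
  choose A hA hAX hAb hA1 hA2 using Lev.Exa.exists_one E N hk0
  obtain ⟨L, Z, A', hL1, hA', hL2, hZ, hF⟩ := H.frL E.elem E.VX E.norm fun i =>
    ⟨A i, hA i, hAX i, hAb i, hA1 i, hA2 i⟩
  have hVn : ∀ g ∈ P, ∀ v ∈ zl (S : Subgroup G) P, g * v * g⁻¹ ∈ zl (S : Subgroup G) P := M.Vn
  have hPV : P ≤ normalizer (zl (S : Subgroup G) P : Set G) := by
    intro p hp
    rw [mem_normalizer_iff_cj]
    refine Subgroup.eq_of_le_of_card_ge ?_ (by rw [card_cj])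
    rintro _ ⟨v, hv, rfl⟩
    exact M.Vn p hp v hv
  have hSP : (S : Subgroup G) ≤ P := hP.le
  have hBN := norm_V_of_fr hF
  -- coordinates
  have cd : Cd F (BL (S : Subgroup G) n) (zl (S : Subgroup G) P) (ZL (S : Subgroup G) n) k N.e :=
    { VV := fun v hv w hw => hF.Vc hv hw
      mul := N.mul
      surj := N.surj
      inj := fun v hv h0 => H.inj hv (one_mem _) (by
        rw [M.map_one]
        exact h0)
      ZV := hF.ZJV
      memZ := fun v hv => ⟨fun h => ((hZJ v).1 h).2, fun h => (hZJ v).2 ⟨hv, h⟩⟩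
      nB := fun b hb v hv => M.Vn b (H.BH hb) v hv
      act := fun b hb => by
        obtain ⟨c, hc⟩ := H.up_of hb
        refine ⟨c, fun v hv i => ?_⟩
        have h1 : N.e (b * v * b⁻¹) i = ap (up (c i)) (N.e v i) := hc v hv i
        rw [h1]
        constructor
        · rw [ap_zero', up_00, up_01, one_mul]
        · rw [ap_one', up_10, up_11, zero_mul, one_mul, zero_add]
      full := fun c => by
        obtain ⟨b, hb, hc⟩ := H.exists_b c
        refine ⟨b, hb, fun v hv i => ?_⟩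
        have h1 : N.e (b * v * b⁻¹) i = ap (up (c i)) (N.e v i) := hc v hv i
        rw [h1]
        constructor
        · rw [ap_zero', up_00, up_01, one_mul]
        · rw [ap_one', up_10, up_11, zero_mul, one_mul, zero_add] }
  have nm : ∀ g ∈ (S : Subgroup G), Nm (BL (S : Subgroup G) n) (zl (S : Subgroup G) P) N.e g := by
    intro g hg
    have hgN : g ∈ normalizer (BL (S : Subgroup G) n : Set G) := (lb S n).two_le S.isPGroup' (lb S n).BS hg
    obtain ⟨h1, h2⟩ := hF.norm_of hgN (NO3S.Level.normalizer_le_zc _ (norm_lev S (by omega) hgN))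
    refine ⟨fun v hv => ?_, fun b hb => (mem_normalizer_iff.1 hgN b).1 hb, fun i => ?_⟩
    · rw [← h1]
      exact ⟨v, hv, rfl⟩
    obtain ⟨j, h3, h4⟩ := h2 i
    refine ⟨j, fun z hz hzl hz1 => ?_, fun w hw hwl l hl => ?_⟩
    · have h5 : z ∈ Z i := (hZ i z).2 ⟨⟨hz, hzl⟩, hz1⟩
      have h6 : g * z * g⁻¹ ∈ Z j := by
        rw [← h3]; exact ⟨z, h5, rfl⟩
      obtain ⟨h7, h8⟩ := (hZ j _).1 h6
      exact ⟨h7.2, h8⟩
    · have h5 : w ∈ Lev.Nat.Wn M i := ⟨hw, hwl⟩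
      have h6 : g * w * g⁻¹ ∈ Lev.Nat.Wn M j ⊔ ZL (S : Subgroup G) n := h4 ⟨w, h5, rfl⟩
      have hle : ZL (S : Subgroup G) n ≤ zl (S : Subgroup G) P := cd.ZV
      have hcom : ∀ a ∈ ZL (S : Subgroup G) n, ∀ b ∈ Lev.Nat.Wn M j, a * b = b * a := fun a ha b hb =>
        cd.VV a (hle ha) b hb.1
      obtain ⟨x, hx, z, hz, e⟩ := SQ1.Bau.mem_sup_comm hcom (by rw [sup_comm]; exact h6)
      rw [e, cd.mul x (hle hx) z hz.1, Pi.add_apply, Pi.add_apply]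
      have h8 : N.e z l = 0 := hz.2 l hl
      rw [h8, (cd.memZ x (hle hx)).1 hx l]
      simp
  obtain ⟨z₀, f₀, h1, h2, h3⟩ := cd.exists_cn hk0 S.isPGroup' nm N.trans
  have md : MD N.toNatK (BL (S : Subgroup G) n) (ZL (S : Subgroup G) n) (Lev.Nat.Wn M) Z z₀ f₀ :=
    ⟨hPV, hSP, h1, h2, h3, fun i v => Iff.rfl, hZ⟩
  have BLi : ∀ i, BL (S : Subgroup G) n ≤ L i := fun i => (hF.blk i).BL
  refine ⟨L, Lev.Nat.Wn M, Z, Lev.Nat.Cn M, A', ?_, fun i l hl => (hL1 i hl).1, fun i v => Iff.rfl, hZ,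
    fun i v => Iff.rfl⟩
  exact
    { fr := hF
      levQ := hn
      char2 := hG
      low := D.low P hP
      noff := fun T hT hB f h1 h2 x hx y hy => by
        have h3 := comm_T (PP := {P}) D (fun R hR => by rw [Set.mem_singleton_iff.1 hR]; exact hP)
          (by simp) (wc S n) (lb S n).BS hBN hT hB h1 h2 hx
        exact (mem_centralizer_iff.1 h3 _ ⟨y, hy, rfl⟩).symm
      perm := fun s hs i j hZ' => perm_of (N := N.toNatK) hVn (fun i v => Iff.rfl) (fun i v => Iff.rfl) hZ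
        (hSP hs) hZ'
      co := fun i => ⟨F, inferInstance, inferInstance, inferInstance, rfl, _, cor_of_md md i BLi
        (fun i l hl => by
          obtain ⟨hlP, A', hA', hup⟩ := hL1 i hl
          exact ⟨hlP, A', hA', hup⟩)
        hL2 H.exists_b⟩ }

/-- **The frame at stage `-1`.** -/
theorem negQ_of (hG : IsCharacteristicTwoType G) (D : DataLow (S : Subgroup G)) (hP : IsParS (S : Subgroup G) P)
    (hcv : cv (S : Subgroup G) P = ⊥) (hJ : ¬ jj (S : Subgroup G) ≤ o2 P) (hk0 : 0 < k)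
    (N : NatKM F (S : Subgroup G) P (zl (S : Subgroup G) P) (cv (S : Subgroup G) P) k) :
    ∃ L W Z C A : Fin k → Subgroup G, NegQ S (zl (S : Subgroup G) P) (o2 P) L W Z C A (Nat.card F) ∧
      (∀ i, L i ≤ P) ∧ (∀ i v, v ∈ W i ↔ v ∈ zl (S : Subgroup G) P ∧ ∀ j, j ≠ i → N.e v j = 0) ∧
      (∀ i v, v ∈ Z i ↔ v ∈ W i ∧ N.e v i 1 = 0) ∧ ∀ i v, v ∈ C i ↔ v ∈ zl (S : Subgroup G) P ∧ N.e v i = 0 := by
  classical
  have hT : Syl (S : Subgroup G) P := ⟨hP.le, S.isPGroup', fun _ _ hT hST => S.is_maximal' hT hST⟩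
  have hc : P ⊓ centralizer (o2 P : Set G) ≤ o2 P := hP.isLoc.char2 S hG
  have o := OM.natOut hT hP.toIsMinPar hc hJ hk0 N.toNatK hcv
  obtain ⟨L, Z, A, hL1, hA, hL2, hZ, hF⟩ := OM.Uni.natFr hT hP.toIsMinPar hc hJ hk0 N.toNatK hcv (OM.Uni.mx_sylow S)
  set M := SQ1.FFOne.natKB_of hT hc hJ hk0 N.toNatK with hM
  have hVn : ∀ g ∈ P, ∀ v ∈ zl (S : Subgroup G) P, g * v * g⁻¹ ∈ zl (S : Subgroup G) P := M.Vn
  have hPV : P ≤ normalizer (zl (S : Subgroup G) P : Set G) := by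
    intro p hp
    rw [mem_normalizer_iff_cj]
    refine Subgroup.eq_of_le_of_card_ge ?_ (by rw [card_cj])
    rintro _ ⟨v, hv, rfl⟩
    exact M.Vn p hp v hv
  have hSP : (S : Subgroup G) ≤ P := hP.le
  have hBS : bau (S : Subgroup G) ≤ (S : Subgroup G) := ChoiceBase.bau_le _
  have hVB : zl (S : Subgroup G) P ≤ bau (S : Subgroup G) := hF.VQ.trans hF.QB
  have hBN : normalizer (bau (S : Subgroup G) : Set G) ≤ normalizer (zl (S : Subgroup G) P : Set G) := fun g hg => by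
    have hgB := cj_eq_of_mem_normalizer hg
    rw [mem_normalizer_iff_cj]
    refine (hF.norm_of hg fun w hw v hv => ?_).1
    have k1 : cj g (zl (S : Subgroup G) P) ≤ (S : Subgroup G) := by
      have := cj_mono g hVB
      rw [hgB] at this
      exact this.trans hBS
    have k2 : zl (S : Subgroup G) P ≤ cj g (S : Subgroup G) := by
      have := cj_mono g hBS
      rw [hgB] at this
      exact hVB.trans this
    exact mem_centralizer_iff.1 (comm_S (PP := {P}) D (fun R hR => by rw [Set.mem_singleton_iff.1 hR]; exact hP)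
      (by simp) k1 k2 hv) w hw
  have hnorm : ∀ g ∈ normalizer (bau (S : Subgroup G) : Set G), cj g (zl (S : Subgroup G) P) = zl (S : Subgroup G) P ∧
      ∀ i, ∃ j, cj g (Z i) = Z j ∧ cj g (OM.Uni.Wn M i) ≤ OM.Uni.Wn M j ⊔ zj (S : Subgroup G) := fun g hg => by
    refine hF.norm_of hg fun w hw v hv => ?_
    obtain ⟨y, hy, rfl⟩ := hw
    have h1 := cj_eq_of_mem_normalizer (hBN hg)
    have h2 : g * y * g⁻¹ ∈ zl (S : Subgroup G) P := by
      rw [← h1]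
      exact ⟨y, hy, rfl⟩
    exact hF.Vc h2 hv
  -- coordinates
  have hup : ∀ {b : G} {c : Fin k → F}, ActsSL N.e (zl (S : Subgroup G) P) (cv (S : Subgroup G) P) b
      (fun i => up (c i)) → ∀ v ∈ zl (S : Subgroup G) P, ∀ i,
      N.e (b * v * b⁻¹) i 0 = N.e v i 0 + c i * N.e v i 1 ∧ N.e (b * v * b⁻¹) i 1 = N.e v i 1 := by
    intro b c hc v hv i
    rw [hc.1 v hv i]
    constructor
    · rw [ap_zero', up_00, up_01, one_mul]
    · rw [ap_one', up_10, up_11, zero_mul, one_mul, zero_add]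
  have cd : Cd F (bau (S : Subgroup G)) (zl (S : Subgroup G) P) (zj (S : Subgroup G)) k N.e :=
    { VV := fun v hv w hw => hF.Vc hv hw
      mul := N.mul
      surj := N.surj
      inj := fun v hv h0 => by
        have h1 := (N.ker v hv).1 h0
        rwa [o.Dbot, mem_bot] at h1
      ZV := o.zj_le
      memZ := fun v hv => ⟨fun h => ((o.mem_zj v).1 h).2, fun h => (o.mem_zj v).2 ⟨hv, h⟩⟩
      nB := fun b hb v hv => M.Vn b (hSP (hBS hb)) v hv
      act := fun b hb => by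
        obtain ⟨c, hc⟩ := o.bau_up b hb
        exact ⟨c, hup hc⟩
      full := fun c => by
        obtain ⟨b, hb, hc⟩ := o.jj_up c
        exact ⟨b, ChoiceBase.jj_le_bau _ hb, hup hc⟩ }
  have nm : ∀ g ∈ (S : Subgroup G), Nm (bau (S : Subgroup G)) (zl (S : Subgroup G) P) N.e g := by
    intro g hg
    have hgN : g ∈ normalizer (bau (S : Subgroup G) : Set G) := Line.S_le S hg
    obtain ⟨h1, h2⟩ := hnorm g hgN
    refine ⟨fun v hv => ?_, fun b hb => (mem_normalizer_iff.1 hgN b).1 hb, fun i => ?_⟩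
    · rw [← h1]
      exact ⟨v, hv, rfl⟩
    obtain ⟨j, h3, h4⟩ := h2 i
    refine ⟨j, fun z hz hzl hz1 => ?_, fun w hw hwl l hl => ?_⟩
    · have h5 : z ∈ Z i := (hZ i z).2 ⟨⟨hz, hzl⟩, hz1⟩
      have h6 : g * z * g⁻¹ ∈ Z j := by
        rw [← h3]; exact ⟨z, h5, rfl⟩
      obtain ⟨h7, h8⟩ := (hZ j _).1 h6
      exact ⟨h7.2, h8⟩
    · have h5 : w ∈ OM.Uni.Wn M i := ⟨hw, hwl⟩
      have h6 : g * w * g⁻¹ ∈ OM.Uni.Wn M j ⊔ zj (S : Subgroup G) := h4 ⟨w, h5, rfl⟩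
      have hle : zj (S : Subgroup G) ≤ zl (S : Subgroup G) P := cd.ZV
      have hcom : ∀ a ∈ zj (S : Subgroup G), ∀ b ∈ OM.Uni.Wn M j, a * b = b * a := fun a ha b hb =>
        cd.VV a (hle ha) b hb.1
      obtain ⟨x, hx, z, hz, e⟩ := SQ1.Bau.mem_sup_comm hcom (by rw [sup_comm]; exact h6)
      rw [e, cd.mul x (hle hx) z hz.1, Pi.add_apply, Pi.add_apply]
      have h8 : N.e z l = 0 := hz.2 l hl
      rw [h8, (cd.memZ x (hle hx)).1 hx l]
      simp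
  obtain ⟨z₀, f₀, h1, h2, h3⟩ := cd.exists_cn hk0 S.isPGroup' nm N.trans
  have md : MD N.toNatK (bau (S : Subgroup G)) (zj (S : Subgroup G)) (OM.Uni.Wn M) Z z₀ f₀ :=
    ⟨hPV, hSP, h1, h2, h3, fun i v => Iff.rfl, hZ⟩
  have BLi : ∀ i, bau (S : Subgroup G) ≤ L i := fun i => (hF.blk i).BL
  refine ⟨L, OM.Uni.Wn M, Z, OM.Uni.Cn M, A, ?_, fun i l hl => (hL1 i hl).1, fun i v => Iff.rfl, hZ,
    fun i v => Iff.rfl⟩
  exact
    { fr := hF
      char2 := hG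
      low := D.low P hP
      noff := fun T hT hB f h1 h2 x hx y hy => by
        have h3 := comm_T (PP := {P}) D (fun R hR => by rw [Set.mem_singleton_iff.1 hR]; exact hP)
          (by simp) (OM.UniPlus.wc_bau S) hBS hBN hT hB h1 h2 hx
        exact (mem_centralizer_iff.1 h3 _ ⟨y, hy, rfl⟩).symm
      perm := fun s hs i j hZ' => perm_of (N := N.toNatK) hVn (fun i v => Iff.rfl) (fun i v => Iff.rfl) hZ
        (hSP hs) hZ'
      co := fun i => ⟨F, inferInstance, inferInstance, inferInstance, rfl, _, cor_of_md md i BLi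
        (fun i l hl => by
          obtain ⟨hlP, A', hA', hup⟩ := hL1 i hl
          exact ⟨hlP, A', hA', hup⟩)
        hL2 (fun c => by
          obtain ⟨b, hb, hc⟩ := o.jj_up c
          exact ⟨b, ChoiceBase.jj_le_bau _ hb, hc.1⟩)⟩ }

end lev

end Cfsg.Agent.Omega.OM.SwapV.Q.OfNat

end

end
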